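import Mathlib

/-!
The two numeric bounds for a Sylow `3`-subgroup of order nine with fixed-point-free automiser.
-/

set_option autoImplicit false

namespace Cfsg.Agent.Lib.ThreeNine

open Finset

/-- The combination used for two classes. -/
def two (a b : ℤ) : ℤ := a * a * b + a * b * b

theorem two_key : ∀ a ∈ Icc (-2 : ℤ) 2, ∀ b ∈ Icc (-2 : ℤ) 2, (3 : ℤ) ∣ a - b →
    (a + b) * (a + b) ≤ 14 → two a b < 0 →
    0 < (5 * (a + b)) % 9 ∧
      0 ≤ 400 * two a b + (5 * (a + b)) % 9 * (16 * ((a - b) * (a - b)) + 25 * ((a + b) * (a + b))) := by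
  unfold two
  decide

theorem two_pointwise (a b d : ℤ) (hd : 0 < d) (haa : a * a ≤ 8) (hbb : b * b ≤ 8)
    (hs : (a + b) * (a + b) ≤ 14) (h3 : (3 : ℤ) ∣ a - b) (h9 : (9 : ℤ) ∣ d + 4 * a + 4 * b) :
    0 ≤ 400 * two a b + d * (16 * ((a - b) * (a - b)) + 25 * ((a + b) * (a + b))) := by
  have hw : 0 ≤ 16 * ((a - b) * (a - b)) + 25 * ((a + b) * (a + b)) := by
    nlinarith [mul_self_nonneg (a - b), mul_self_nonneg (a + b)]
  rcases le_or_gt 0 (two a b) with h | h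
  · nlinarith [mul_nonneg hd.le hw]
  obtain ⟨h1, h2⟩ := two_key a (mem_Icc.mpr ⟨by nlinarith, by nlinarith⟩) b
    (mem_Icc.mpr ⟨by nlinarith, by nlinarith⟩) h3 hs h
  have h4 : (5 * (a + b)) % 9 ≤ d := by omega
  nlinarith [mul_nonneg (sub_nonneg.mpr h4) hw]

/-- Two classes: the order is at most eight hundred. -/
theorem le_eight_hundred {ι : Type*} [Fintype ι] [DecidableEq ι] (one : ι) (a b d : ι → ℤ) (g : ℤ)
    (hg : 0 < g) (hd : ∀ i, 0 < d i) (ha1 : a one = 1) (hb1 : b one = 1) (hd1 : d one = 1)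
    (haa : ∑ i, a i * a i = 9) (hbb : ∑ i, b i * b i = 9) (hab : ∑ i, a i * b i = 0)
    (h3 : ∀ i, (3 : ℤ) ∣ a i - b i) (h9 : ∀ i, (9 : ℤ) ∣ d i + 4 * a i + 4 * b i)
    (h : ∑ i, (two (a i) (b i) : ℚ) / (d i : ℚ) = 324 / (g : ℚ)) : g ≤ 800 := by
  set K := (univ : Finset ι).erase one
  have hK : ∀ f : ι → ℤ, ∑ i ∈ K, f i = (∑ i, f i) - f one := fun f => by
    rw [← add_sum_erase univ f (mem_univ one)]; ring
  have kaa : ∑ i ∈ K, a i * a i = 8 := by rw [hK, haa, ha1]; norm_num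
  have kbb : ∑ i ∈ K, b i * b i = 8 := by rw [hK, hbb, hb1]; norm_num
  have kab : ∑ i ∈ K, a i * b i = -1 := by rw [hK, hab, ha1, hb1]; norm_num
  have ksum : ∑ i ∈ K, (a i + b i) * (a i + b i) = 14 := by
    simp only [add_mul, mul_add, sum_add_distrib, kaa, kbb, kab]
    rw [sum_congr rfl fun i _ => mul_comm (b i) (a i), kab]; norm_num
  have kdiff : ∑ i ∈ K, (a i - b i) * (a i - b i) = 18 := by
    simp only [sub_mul, mul_sub, sum_sub_distrib, kaa, kbb, kab]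
    rw [sum_congr rfl fun i _ => mul_comm (b i) (a i), kab]; norm_num
  have kw : (∑ i ∈ K, ((16 * ((a i - b i) * (a i - b i)) + 25 * ((a i + b i) * (a i + b i)) : ℤ) : ℚ)) =
      638 := by
    rw [← Int.cast_sum, sum_add_distrib, ← mul_sum, ← mul_sum, ksum, kdiff]
    norm_num
  have hle : ∀ i ∈ K, -((16 * ((a i - b i) * (a i - b i)) + 25 * ((a i + b i) * (a i + b i)) : ℤ) : ℚ) / 400 ≤
      (two (a i) (b i) : ℚ) / (d i : ℚ) := by
    intro i hi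
    have h1 := two_pointwise (a i) (b i) (d i) (hd i)
      (kaa ▸ single_le_sum (fun j _ => mul_self_nonneg (a j)) hi)
      (kbb ▸ single_le_sum (fun j _ => mul_self_nonneg (b j)) hi)
      (ksum ▸ single_le_sum (fun j _ => mul_self_nonneg (a j + b j)) hi) (h3 i) (h9 i)
    have h2 : (0 : ℚ) < d i := by exact_mod_cast hd i
    rw [div_le_div_iff₀ (by norm_num) h2]
    have h1' : ((0 : ℤ) : ℚ) ≤ _ := Int.cast_le.mpr h1
    push_cast at h1' ⊢
    linarith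
  have h4 := sum_le_sum hle
  rw [← sum_div, sum_neg_distrib, kw] at h4
  have h6 : (two (a one) (b one) : ℚ) / (d one : ℚ) = 2 := by rw [ha1, hb1, hd1]; norm_num [two]
  rw [← add_sum_erase univ _ (mem_univ one), h6] at h
  by_contra hg'
  push Not at hg'
  have h5 : (324 : ℚ) / g ≤ 324 / 801 := by
    have : (801 : ℚ) ≤ g := by exact_mod_cast hg'
    gcongr
  norm_num at h4 h5
  linarith

/-- The combination used for four classes. -/
def four (a : Fin 4 → ℤ) : ℤ :=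
  12 * (a 0 * a 1 * a 2 + a 0 * a 1 * a 3 + a 0 * a 2 * a 3 + a 1 * a 2 * a 3) +
  5 * (a 0 * a 0 * a 1 + a 0 * a 0 * a 2 + a 0 * a 0 * a 3 + a 1 * a 1 * a 0 + a 1 * a 1 * a 2 +
    a 1 * a 1 * a 3 + a 2 * a 2 * a 0 + a 2 * a 2 * a 1 + a 2 * a 2 * a 3 + a 3 * a 3 * a 0 +
    a 3 * a 3 * a 1 + a 3 * a 3 * a 2)

theorem four_key : ∀ a ∈ Icc (-2 : ℤ) 2, ∀ b ∈ Icc (-2 : ℤ) 2, (3 : ℤ) ∣ a - b →
    ∀ c ∈ Icc (-2 : ℤ) 2, (3 : ℤ) ∣ a - c → ∀ e ∈ Icc (-2 : ℤ) 2, (3 : ℤ) ∣ a - e →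
    (a + b + c + e) * (a + b + c + e) ≤ 20 → four ![a, b, c, e] < 0 →
    0 < (-2 * (a + b + c + e)) % 9 ∧ 0 ≤ four ![a, b, c, e] +
      (-2 * (a + b + c + e)) % 9 * ((a + b + c + e) * (a + b + c + e)) := by
  unfold four
  decide

theorem four_pointwise (a : Fin 4 → ℤ) (d : ℤ) (hd : 0 < d) (haa : ∀ k, a k * a k ≤ 8)
    (hs : (a 0 + a 1 + a 2 + a 3) * (a 0 + a 1 + a 2 + a 3) ≤ 20)
    (h3 : ∀ k, (3 : ℤ) ∣ a 0 - a k) (h9 : (9 : ℤ) ∣ d + 2 * (a 0 + a 1 + a 2 + a 3)) :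
    0 ≤ four a + d * ((a 0 + a 1 + a 2 + a 3) * (a 0 + a 1 + a 2 + a 3)) := by
  have hw : 0 ≤ (a 0 + a 1 + a 2 + a 3) * (a 0 + a 1 + a 2 + a 3) := mul_self_nonneg _
  rcases le_or_gt 0 (four a) with h | h
  · nlinarith [mul_nonneg hd.le hw]
  have hm : ∀ k, a k ∈ Icc (-2 : ℤ) 2 := fun k => by
    have := haa k
    exact mem_Icc.mpr ⟨by nlinarith, by nlinarith⟩
  have he : four ![a 0, a 1, a 2, a 3] = four a := rfl
  obtain ⟨h1, h2⟩ := four_key _ (hm 0) _ (hm 1) (h3 1) _ (hm 2) (h3 2) _ (hm 3) (h3 3) hs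
    (by rw [he]; exact h)
  rw [he] at h2
  have h4 : (-2 * (a 0 + a 1 + a 2 + a 3)) % 9 ≤ d := by omega
  nlinarith [mul_nonneg (sub_nonneg.mpr h4) hw]

/-- Four classes: the order is at most forty-four. -/
theorem le_forty_four {ι : Type*} [Fintype ι] [DecidableEq ι] (one : ι) (a : ι → Fin 4 → ℤ)
    (d : ι → ℤ) (g : ℤ) (hg : 0 < g) (hd : ∀ i, 0 < d i) (ha1 : ∀ k, a one k = 1) (hd1 : d one = 1)
    (hor : ∀ k l, ∑ i, a i k * a i l = if k = l then 9 else 0)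
    (h3 : ∀ i k, (3 : ℤ) ∣ a i 0 - a i k)
    (h9 : ∀ i, (9 : ℤ) ∣ d i + 2 * (a i 0 + a i 1 + a i 2 + a i 3))
    (h : ∑ i, (four (a i) : ℚ) / (d i : ℚ) = 3888 / (g : ℚ)) : g ≤ 44 := by
  set K := (univ : Finset ι).erase one
  have hK : ∀ f : ι → ℤ, ∑ i ∈ K, f i = (∑ i, f i) - f one := fun f => by
    rw [← add_sum_erase univ f (mem_univ one)]; ring
  have kor : ∀ k l, ∑ i ∈ K, a i k * a i l = if k = l then 8 else -1 := fun k l => by
    rw [hK, hor, ha1, ha1]; split_ifs <;> norm_num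
  have ksum : ∑ i ∈ K, (a i 0 + a i 1 + a i 2 + a i 3) * (a i 0 + a i 1 + a i 2 + a i 3) = 20 := by
    simp only [add_mul, mul_add, sum_add_distrib, kor]
    decide
  have hle : ∀ i ∈ K, -(((a i 0 + a i 1 + a i 2 + a i 3) * (a i 0 + a i 1 + a i 2 + a i 3) : ℤ) : ℚ) ≤
      (four (a i) : ℚ) / (d i : ℚ) := by
    intro i hi
    have h1 := four_pointwise (a i) (d i) (hd i) (fun k => by
      have := single_le_sum (fun j _ => mul_self_nonneg (a j k)) hi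
      rw [kor, if_pos rfl] at this
      exact this)
      (ksum ▸ single_le_sum (fun j _ => mul_self_nonneg (a j 0 + a j 1 + a j 2 + a j 3)) hi) (h3 i)
      (h9 i)
    have h2 : (0 : ℚ) < d i := by exact_mod_cast hd i
    rw [le_div_iff₀ h2]
    have h1' : ((0 : ℤ) : ℚ) ≤ _ := Int.cast_le.mpr h1
    push_cast at h1' ⊢
    linarith
  have h4 := sum_le_sum hle
  rw [sum_neg_distrib, ← Int.cast_sum, ksum] at h4
  have h6 : (four (a one) : ℚ) / (d one : ℚ) = 108 := by rw [hd1]; norm_num [four, ha1]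
  rw [← add_sum_erase univ _ (mem_univ one), h6] at h
  by_contra hg'
  push Not at hg'
  have h5 : (3888 : ℚ) / g ≤ 3888 / 45 := by
    have : (45 : ℚ) ≤ g := by exact_mod_cast hg'
    gcongr
  norm_num at h4 h5
  linarith

end Cfsg.Agent.Lib.ThreeNine
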