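import Cfsg.Agent.Lib.ThreeNine.FpfTable
import Cfsg.Agent.Lib.ThreeNine.FpfNumeric

/-!
Two or more classes of elements of order three: the order of the group.
-/

set_option autoImplicit false

namespace Cfsg.Agent.Lib.ThreeNine

open Cfsg Cfsg.Agent.Lib.Characters Finset

variable {G : Type*} [Group G] [Finite G] {T : Sylow 3 G}

variable {x y : G}

local notation "𝓝" => Subgroup.normalizer ((T : Subgroup G) : Set G)

/-- Classes as lines. -/
def line (z : ZMod 3 × ZMod 3) : Fin 5 :=
  if z.1 = 0 then (if z.2 = 0 then 0 else 2)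
  else (if z.2 = 0 then 1 else (if z.1 = z.2 then 3 else 4))

/-- Classes as pairs of lines. -/
def pair (z : ZMod 3 × ZMod 3) : Fin 3 :=
  if z = 0 then 0 else (if z.1 = 0 ∨ z.2 = 0 then 1 else 2)

theorem sum_zz (f : ZMod 3 × ZMod 3 → ℤ) :
    ∑ z, f z = f (0, 0) + f (0, 1) + f (0, 2) + f (1, 0) + f (1, 1) + f (1, 2) + f (2, 0) +
      f (2, 1) + f (2, 2) := by
  rw [show (univ : Finset (ZMod 3 × ZMod 3)) = {(0, 0), (0, 1), (0, 2), (1, 0), (1, 1), (1, 2),
    (2, 0), (2, 1), (2, 2)} by decide]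
  simp +decide [Finset.sum_insert]
  ring

theorem Fpf.card_normalizer (h : Fpf T) :
    Nat.card 𝓝 = 9 * ((T : Subgroup G).subgroupOf 𝓝).index := by
  rw [← Subgroup.card_mul_index ((T : Subgroup G).subgroupOf 𝓝),
    Nat.card_congr (Subgroup.subgroupOfEquivOfLe (Subgroup.le_normalizer)).toEquiv,
    show Nat.card ↥(T : Subgroup G) = 9 from h.card]

theorem Fpf.card_cl (h : Fpf T) {x y : G} (c : Axes T x y) [DecidableRel (IsConj : G → G → Prop)]
    {z : ZMod 3 × ZMod 3} (hz : z ≠ 0) :
    (univ.filter fun z' => IsConj (el x y z) (el x y z')).card =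
      ((T : Subgroup G).subgroupOf 𝓝).index := by
  rw [← h.card_class (c.el_mem z) (fun e => hz (c.el_eq_one.mp e)), ← Fintype.card_subtype,
    ← Nat.card_eq_fintype_card]
  refine Nat.card_eq_of_bijective (fun w => ⟨⟨el x y w.1, c.el_mem _⟩, w.2⟩)
    ⟨fun w w' e => Subtype.ext (c.inj _ _ (congrArg (fun r => ((r.1 : ↥(T : Subgroup G)) : G)) e)),
      fun r => ?_⟩
  obtain ⟨w, hw⟩ := c.surj _ r.1.2
  exact ⟨⟨w, hw.symm ▸ r.2⟩, Subtype.ext (Subtype.ext hw)⟩

theorem Axes.isConj_zero (c : Axes T x y) {z : ZMod 3 × ZMod 3} :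
    IsConj (el x y 0) (el x y z) ↔ z = 0 := by
  rw [c.el_eq_one.mpr rfl, isConj_one_right.trans c.el_eq_one]

theorem Axes.isConj_iff_of (c : Axes T x y) {α : Type*} (κ : ZMod 3 × ZMod 3 → α)
    (h0 : ∀ z, κ z = κ 0 ↔ z = 0)
    (h : ∀ z, z ≠ 0 → ∀ z', z' ≠ 0 → (IsConj (el x y z) (el x y z') ↔ κ z = κ z')) :
    ∀ z z', IsConj (el x y z) (el x y z') ↔ κ z = κ z' := by
  intro z z'
  by_cases hz : z = 0
  · subst hz
    rw [c.isConj_zero]
    exact ⟨fun e => by rw [e], fun e => (h0 z').mp e.symm⟩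
  · by_cases hz' : z' = 0
    · subst hz'
      exact ⟨fun e => absurd (c.isConj_zero.mp e.symm) hz, fun e => absurd ((h0 z).mp e) hz⟩
    · exact h z hz z' hz'

/-- An automiser of order two forces a normal Sylow subgroup. -/
theorem Fpf.card_le_of_two (h : Fpf T) (hm : ((T : Subgroup G).subgroupOf 𝓝).index = 2) :
    Nat.card G ≤ 44 := by
  classical
  haveI := Fintype.ofFinite (IrrCharacter G)
  obtain ⟨x, hx, hx1⟩ : ∃ x ∈ (T : Subgroup G), x ≠ 1 := by
    by_contra hcon
    push Not at hcon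
    have := h.card
    rw [show Nat.card ↥(T : Subgroup G) = 1 by
      rw [(Subgroup.eq_bot_iff_forall _).mpr hcon]; exact Subgroup.card_bot] at this
    omega
  obtain ⟨y, hy, hne⟩ : ∃ y ∈ (T : Subgroup G), ∀ i : ℕ, y ≠ x ^ i := by
    by_contra hcon
    push Not at hcon
    have hle : (T : Subgroup G) ≤ Subgroup.zpowers x := fun u hu => by
      obtain ⟨i, rfl⟩ := hcon u hu
      exact pow_mem (Subgroup.mem_zpowers x) i
    have h1 := Subgroup.card_le_of_le hle
    rw [show Nat.card ↥(T : Subgroup G) = 9 from h.card, Nat.card_zpowers] at h1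
    haveI : Fact (Nat.Prime 3) := ⟨Nat.prime_three⟩
    rw [orderOf_eq_prime (h.cube x hx) hx1] at h1
    omega
  have c := h.toLoc.exists_axes hx hy hx1 hne
  have hneg : ∀ z, IsConj (el x y z) (el x y (-z)) := fun z => by
    rw [← c.el_inv h.toLoc]
    exact h.isConj_inv (by rw [hm]) (c.el_mem z)
  have hκ := c.isConj_iff_of line (by decide) fun z hz z' _ => by
    refine ⟨fun e => ?_, fun e => ?_⟩
    · have hsub : ({z, -z} : Finset (ZMod 3 × ZMod 3)) ⊆
          univ.filter fun w => IsConj (el x y z) (el x y w) := by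
        intro w hw
        simp only [mem_insert, mem_singleton] at hw
        refine mem_filter.mpr ⟨mem_univ _, ?_⟩
        rcases hw with rfl | rfl
        · rfl
        · exact hneg z
      have hne' : z ≠ -z := (by decide : ∀ z : ZMod 3 × ZMod 3, z ≠ 0 → z ≠ -z) z hz
      have heq := eq_of_subset_of_card_le hsub (by rw [h.card_cl c hz, hm, card_pair hne'])
      have : z' ∈ ({z, -z} : Finset (ZMod 3 × ZMod 3)) := heq ▸ mem_filter.mpr ⟨mem_univ _, e⟩
      simp only [mem_insert, mem_singleton] at this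
      rcases this with rfl | rfl
      · rfl
      · exact ((by decide : ∀ z : ZMod 3 × ZMod 3, line (-z) = line z) z).symm
    · rcases (by decide : ∀ z z' : ZMod 3 × ZMod 3, line z = line z' → z' = z ∨ z' = -z) z z' e with
        rfl | rfl
      · rfl
      · exact hneg z
  obtain ⟨v, d, hd0, hd1, hone, hv0, hv3, hv9, horth, hconst⟩ :=
    h.table c line hκ (by decide)
  have heq : ∀ χ (z z' : ZMod 3 × ZMod 3), z ≠ 0 → line z = line z' → v χ z = v χ z' := by
    intro χ z z' hz he
    have h1 := horth z z hz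
    have h2 := horth z z' hz
    have h3 := horth z' z' (fun e => hz ((by decide : ∀ w : ZMod 3 × ZMod 3, line w = line 0 → w = 0) z (e ▸ he)))
    rw [if_pos rfl] at h1 h3
    rw [if_pos he] at h2
    have hsq : ∑ χ, (v χ z - v χ z') * (v χ z - v χ z') = 0 := by
      simp only [sub_mul, mul_sub, sum_sub_distrib]
      rw [h1, h2, h3, sum_congr rfl fun χ _ => mul_comm (v χ z') (v χ z), h2]
      norm_num
    have := (sum_eq_zero_iff_of_nonneg fun χ _ => mul_self_nonneg _).mp hsq χ (mem_univ _)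
    exact sub_eq_zero.mp (mul_self_eq_zero.mp this)
  obtain ⟨e, he⟩ : ∃ e : Fin 4 → ZMod 3 × ZMod 3, e = ![(1, 0), (0, 1), (1, 1), (1, 2)] := ⟨_, rfl⟩
  have e0 : ∀ k, e k ≠ 0 := by subst he; decide
  have trip : ∀ i j k, i ≠ j → i ≠ k → j ≠ k →
      ∑ χ, ((v χ (e i) : ℚ) * v χ (e j) * v χ (e k)) / (d χ : ℚ) = 81 / (Nat.card G : ℚ) := by
    intro i j k hij hik hjk
    have h1 := hconst (e i) (e j) (e k) (e0 i) (e0 j) (e0 k)
      ((by subst he; decide : ∀ i j k, i ≠ j → ¬ (line (e i) = line (e j) ∧ line (e i) = line (e k)))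
        i j k hij)
    rw [(by subst he; decide : ∀ i j k, i ≠ j → i ≠ k → j ≠ k →
      (univ.filter (fun z => line z = line (e i) ∧ line (e k - z) = line (e j))).card = 1)
      i j k hij hik hjk] at h1
    simpa using h1
  have sq2 : ∀ i k, i ≠ k →
      ∑ χ, ((v χ (e i) : ℚ) * v χ (e i) * v χ (e k)) / (d χ : ℚ) = 0 := by
    intro i k hik
    have h1 := hconst (e i) (e i) (e k) (e0 i) (e0 i) (e0 k)
      ((by subst he; decide : ∀ i k, i ≠ k → ¬ (line (e i) = line (e i) ∧ line (e i) = line (e k)))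
        i k hik)
    rw [(by subst he; decide : ∀ i k, i ≠ k →
      (univ.filter (fun z => line z = line (e i) ∧ line (e k - z) = line (e i))).card = 0)
      i k hik] at h1
    simpa using h1
  have hpos : (0 : ℤ) < Nat.card G := by exact_mod_cast Nat.card_pos
  have key := le_forty_four (trivIrr G) (fun χ k => v χ (e k)) (fun χ => (d χ : ℤ)) (Nat.card G : ℤ)
    hpos (fun χ => by exact_mod_cast hd0 χ) (fun k => hone _) (by simp [hd1])
    (fun k l => by
      rw [horth _ _ (e0 k)]
      exact if_congr ((by subst he; decide : ∀ k l, line (e k) = line (e l) ↔ k = l) k l) rfl rfl)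
    (fun χ k => by
      have := dvd_sub (hv3 χ (e 0)) (hv3 χ (e k))
      simpa using this)
    (fun χ => by
      have h9 := hv9 χ
      rw [sum_zz, show ((0, 0) : ZMod 3 × ZMod 3) = 0 from rfl, hv0] at h9
      rw [heq χ (0, 2) (0, 1) (by decide) (by decide), heq χ (2, 0) (1, 0) (by decide) (by decide),
        heq χ (2, 2) (1, 1) (by decide) (by decide),
        heq χ (2, 1) (1, 2) (by decide) (by decide)] at h9
      subst he
      simp only [Matrix.cons_val_zero, Matrix.cons_val_one, Matrix.cons_val]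
      have e9 : (d χ : ℤ) + 2 * (v χ (1, 0) + v χ (0, 1) + v χ (1, 1) + v χ (1, 2)) =
          (d χ : ℤ) + v χ (0, 1) + v χ (0, 1) + v χ (1, 0) + v χ (1, 1) + v χ (1, 2) + v χ (1, 0) +
            v χ (1, 2) + v χ (1, 1) := by ring
      rw [e9]
      exact h9)
    (by
      simp only [four, Int.cast_add, Int.cast_mul, Int.cast_ofNat, Int.cast_natCast, add_div,
        mul_add, sum_add_distrib, mul_div_assoc, ← mul_sum]
      simp only [← mul_div_assoc]
      rw [trip 0 1 2, trip 0 1 3, trip 0 2 3, trip 1 2 3, sq2 0 1, sq2 0 2, sq2 0 3, sq2 1 0,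
        sq2 1 2, sq2 1 3, sq2 2 0, sq2 2 1, sq2 2 3, sq2 3 0, sq2 3 1, sq2 3 2]
      all_goals first | decide | ring)
  exact_mod_cast key

/-- An automiser of order four with two classes bounds the order. -/
theorem Fpf.card_le_of_four (h : Fpf T) (hm : ((T : Subgroup G).subgroupOf 𝓝).index = 4) :
    Nat.card G ≤ 800 := by
  classical
  haveI := Fintype.ofFinite (IrrCharacter G)
  obtain ⟨x, hx, hx1⟩ : ∃ x ∈ (T : Subgroup G), x ≠ 1 := by
    by_contra hcon
    push Not at hcon
    have := h.card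
    rw [show Nat.card ↥(T : Subgroup G) = 1 by
      rw [(Subgroup.eq_bot_iff_forall _).mpr hcon]; exact Subgroup.card_bot] at this
    omega
  obtain ⟨y, hy, hxy, hyx, hyx'⟩ : ∃ y ∈ (T : Subgroup G), IsConj x y ∧ y ≠ x ∧ y ≠ x⁻¹ := by
    by_contra hcon
    push Not at hcon
    have h1 := h.card_class hx hx1
    rw [hm] at h1
    let f : {v : ↥(T : Subgroup G) // IsConj x (v : G)} → Bool := fun v => decide ((v.1 : G) = x)
    have h2 := Nat.card_le_card_of_injective f fun v w e => by
      have hiff := decide_eq_decide.mp e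
      apply Subtype.ext; apply Subtype.ext
      by_cases hv : (v.1 : G) = x
      · rw [hv, hiff.mp hv]
      · rw [hcon _ v.1.2 v.2 hv, hcon _ w.1.2 w.2 (fun e' => hv (hiff.mpr e'))]
    rw [h1, Nat.card_eq_fintype_card, Fintype.card_bool] at h2
    omega
  have hne : ∀ i : ℕ, y ≠ x ^ i := by
    intro i e
    rw [pow_eq_pow_mod i (h.cube x hx)] at e
    have h3 : x ^ 2 = x⁻¹ := eq_inv_of_mul_eq_one_left (by rw [← pow_succ]; exact h.cube x hx)
    have : i % 3 < 3 := Nat.mod_lt _ (by norm_num)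
    interval_cases hi : i % 3
    · rw [pow_zero] at e
      exact hx1 (isConj_one_left.mp (e ▸ hxy))
    · rw [pow_one] at e
      exact hyx e
    · exact hyx' (e.trans h3)
  have c := h.toLoc.exists_axes hx hy hx1 hne
  have hneg : ∀ z, IsConj (el x y z) (el x y (-z)) := fun z => by
    rw [← c.el_inv h.toLoc]
    exact h.isConj_inv (by rw [hm]; norm_num) (c.el_mem z)
  have ex : el x y (1, 0) = x := by simp [el, ZMod.val_one]
  have ey : el x y (0, 1) = y := by simp [el, ZMod.val_one]
  have hA : (univ.filter fun w => pair w = 1) =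
      univ.filter fun w => IsConj (el x y (1, 0)) (el x y w) := by
    refine eq_of_subset_of_card_le ?_ (by rw [h.card_cl c (by decide), hm]; decide)
    intro w hw
    have h1 := hneg (1, 0)
    have h2 : IsConj (el x y (1, 0)) (el x y (0, 1)) := by rw [ex, ey]; exact hxy
    have h3 := h2.trans (hneg (0, 1))
    refine mem_filter.mpr ⟨mem_univ _, ?_⟩
    rcases (by decide : ∀ w : ZMod 3 × ZMod 3, pair w = 1 →
      w = (1, 0) ∨ w = -(1, 0) ∨ w = (0, 1) ∨ w = -(0, 1)) w (mem_filter.mp hw).2 with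
      rfl | rfl | rfl | rfl
    · rfl
    · exact h1
    · exact h2
    · exact h3
  have hA' : ∀ w, pair w = 1 ↔ IsConj (el x y (1, 0)) (el x y w) := fun w => by
    simpa using Finset.ext_iff.mp hA w
  have hκ := c.isConj_iff_of pair (by decide) fun z hz z' hz' => by
    rcases (by decide : ∀ z : ZMod 3 × ZMod 3, z ≠ 0 → pair z = 1 ∨ pair z = 2) z hz with e1 | e1
    · refine ⟨fun e => ?_, fun e => ?_⟩
      · rw [e1, (hA' z').mpr (((hA' z).mp e1).trans e)]
      · exact ((hA' z).mp e1).symm.trans ((hA' z').mp (e ▸ e1))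
    · have hB : (univ.filter fun w => IsConj (el x y z) (el x y w)) =
          univ.filter fun w => pair w = 2 := by
        refine eq_of_subset_of_card_le ?_ (by rw [h.card_cl c hz, hm]; decide)
        intro w hw
        have hw' := (mem_filter.mp hw).2
        refine mem_filter.mpr ⟨mem_univ _, ?_⟩
        have hw0 : w ≠ 0 := fun e => hz (c.isConj_zero.mp (e ▸ hw').symm)
        rcases (by decide : ∀ w : ZMod 3 × ZMod 3, w ≠ 0 → pair w = 1 ∨ pair w = 2) w hw0 with
          e2 | e2
        · exfalso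
          rw [(hA' z).mpr (((hA' w).mp e2).trans hw'.symm)] at e1
          exact absurd e1 (by decide)
        · exact e2
      have := Finset.ext_iff.mp hB z'
      simp only [mem_filter, mem_univ, true_and] at this
      rw [this, e1]
      exact eq_comm
  obtain ⟨v, d, hd0, hd1, hone, hv0, hv3, hv9, horth, hconst⟩ :=
    h.table c pair hκ (by decide)
  have heq : ∀ χ (z z' : ZMod 3 × ZMod 3), z ≠ 0 → pair z = pair z' → v χ z = v χ z' := by
    intro χ z z' hz he
    have h1 := horth z z hz
    have h2 := horth z z' hz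
    have h3 := horth z' z' (fun e => hz ((by decide : ∀ w : ZMod 3 × ZMod 3, pair w = pair 0 → w = 0) z (e ▸ he)))
    rw [if_pos rfl] at h1 h3
    rw [if_pos he] at h2
    have hsq : ∑ χ, (v χ z - v χ z') * (v χ z - v χ z') = 0 := by
      simp only [sub_mul, mul_sub, sum_sub_distrib]
      rw [h1, h2, h3, sum_congr rfl fun χ _ => mul_comm (v χ z') (v χ z), h2]
      norm_num
    have := (sum_eq_zero_iff_of_nonneg fun χ _ => mul_self_nonneg _).mp hsq χ (mem_univ _)
    exact sub_eq_zero.mp (mul_self_eq_zero.mp this)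
  have k1 := hconst (1, 0) (1, 0) (1, 1) (by decide) (by decide) (by decide) (by decide)
  have k2 := hconst (1, 1) (1, 1) (1, 0) (by decide) (by decide) (by decide) (by decide)
  rw [show (univ.filter (fun z => pair z = pair (1, 0) ∧ pair ((1, 1) - z) = pair (1, 0))).card = 2
    by decide] at k1
  rw [show (univ.filter (fun z => pair z = pair (1, 1) ∧ pair ((1, 0) - z) = pair (1, 1))).card = 2
    by decide] at k2
  have hpos : (0 : ℤ) < Nat.card G := by exact_mod_cast Nat.card_pos
  have key := le_eight_hundred (trivIrr G) (fun χ => v χ (1, 0)) (fun χ => v χ (1, 1))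
    (fun χ => (d χ : ℤ)) (Nat.card G : ℤ) hpos (fun χ => by exact_mod_cast hd0 χ) (hone _) (hone _)
    (by simp [hd1]) (by rw [horth _ _ (by decide), if_pos rfl])
    (by rw [horth _ _ (by decide), if_pos rfl])
    (by rw [horth _ _ (by decide), if_neg (by decide)])
    (fun χ => by
      have := dvd_sub (hv3 χ (1, 0)) (hv3 χ (1, 1))
      simpa using this)
    (fun χ => by
      have h9 := hv9 χ
      rw [sum_zz, show ((0, 0) : ZMod 3 × ZMod 3) = 0 from rfl, hv0] at h9
      rw [heq χ (0, 1) (1, 0) (by decide) (by decide), heq χ (0, 2) (1, 0) (by decide) (by decide),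
        heq χ (2, 0) (1, 0) (by decide) (by decide), heq χ (1, 2) (1, 1) (by decide) (by decide),
        heq χ (2, 1) (1, 1) (by decide) (by decide),
        heq χ (2, 2) (1, 1) (by decide) (by decide)] at h9
      have e9 : (d χ : ℤ) + 4 * v χ (1, 0) + 4 * v χ (1, 1) =
          (d χ : ℤ) + v χ (1, 0) + v χ (1, 0) + v χ (1, 0) + v χ (1, 1) + v χ (1, 1) + v χ (1, 0) +
            v χ (1, 1) + v χ (1, 1) := by ring
      rw [e9]
      exact h9)
    (by
      push_cast at k1 k2
      simp only [two, Int.cast_add, Int.cast_mul, Int.cast_natCast, add_div, sum_add_distrib]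
      rw [k1, sum_congr rfl fun χ _ => congrArg (· / (d χ : ℚ))
        (by ring : (v χ (1, 0) : ℚ) * v χ (1, 1) * v χ (1, 1) = v χ (1, 1) * v χ (1, 1) * v χ (1, 0)),
        k2]
      ring)
  exact_mod_cast key

end Cfsg.Agent.Lib.ThreeNine
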