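import Mathlib

/-!
The arithmetic end of the characterisation of a self-centralising `3 × 3` with four-group automiser.
-/

set_option autoImplicit false

namespace Cfsg.Agent.Lib.ThreeNine

open Finset

/-- The first combination of triple products. -/
def comb1 (a b c : ℤ) : ℤ :=
  a * a * c + b * b * c - a * c * c - b * c * c + 2 * (a * b * c) - a * a * b - a * b * b

/-- The second combination of triple products. -/
def comb2 (a b c : ℤ) : ℤ :=
  a * a * c + b * b * c + a * c * c + b * c * c - 2 * (a * a * b) - 2 * (a * b * b)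

theorem sq_sum_three {ι : Type*} (s : Finset ι) (p : ι → ℤ) (h : ∑ i ∈ s, p i * p i = 3) :
    ∀ i ∈ s, p i = 0 ∨ p i * p i = 1 := by
  intro i hi
  have h1 : p i * p i ≤ 3 := h ▸ single_le_sum (fun j _ => mul_self_nonneg (p j)) hi
  have h2 : -1 ≤ p i ∧ p i ≤ 1 := by
    constructor <;> nlinarith
  obtain ⟨h2, h3⟩ := h2
  interval_cases p i <;> simp

theorem sum_eq_support {ι : Type*} [Fintype ι] [DecidableEq ι] (K : Finset ι) (f : ι → ℤ)
    (h : ∀ i ∉ K, f i = 0) : ∑ i, f i = ∑ i ∈ K, f i :=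
  (sum_subset (subset_univ K) fun i _ hi => h i hi).symm

set_option maxHeartbeats 1600000 in
/-- The arithmetic conclusion. -/
theorem index_eq_one {ι : Type*} [Fintype ι] [DecidableEq ι] (one : ι) (a b c d : ι → ℤ) (g n : ℤ)
    (hg : g = 36 * n) (hn0 : 0 < n) (hn : n % 9 = 1) (hd : ∀ i, 0 < d i)
    (hdg : ∀ i, d i * d i ≤ g) (ha1 : a one = 1) (hb1 : b one = 1) (hc1 : c one = 1)
    (haa : ∑ i, a i * a i = 18) (hbb : ∑ i, b i * b i = 18) (hcc : ∑ i, c i * c i = 9)
    (hab : ∑ i, a i * b i = 0) (hac : ∑ i, a i * c i = 0) (hbc : ∑ i, b i * c i = 0)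
    (hap : ∀ i, (3 : ℤ) ∣ a i - c i) (hbp : ∀ i, (3 : ℤ) ∣ b i - c i)
    (h1 : ∑ i, (comb1 (a i) (b i) (c i) : ℚ) / (d i : ℚ) = 324 / (g : ℚ))
    (h2 : ∑ i, (comb2 (a i) (b i) (c i) : ℚ) / (d i : ℚ) = 324 / (g : ℚ)) : n = 1 := by
  choose p hp using hap
  choose q hq using hbp
  have ha : ∀ i, a i = 3 * p i + c i := fun i => by linarith [hp i]
  have hb : ∀ i, b i = 3 * q i + c i := fun i => by linarith [hq i]
  simp only [ha, hb] at haa hbb hab hac hbc h1 h2 ha1 hb1
  simp only [mul_add, add_mul, sum_add_distrib] at haa hbb hab hac hbc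
  have e1 : ∀ (u v : ι → ℤ), ∑ i, 3 * u i * v i = 3 * ∑ i, u i * v i := fun u v => by
    rw [mul_sum]; exact sum_congr rfl fun i _ => by ring
  have e2 : ∀ (u v : ι → ℤ), ∑ i, u i * (3 * v i) = 3 * ∑ i, v i * u i := fun u v => by
    rw [mul_sum]; exact sum_congr rfl fun i _ => by ring
  have e3 : ∀ (u v : ι → ℤ), ∑ i, 3 * u i * (3 * v i) = 9 * ∑ i, u i * v i := fun u v => by
    rw [mul_sum]; exact sum_congr rfl fun i _ => by ring
  simp only [e3] at haa hbb hab
  simp only [e1, e2] at haa hbb hab hac hbc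
  have hpc : ∑ i, p i * c i = -3 := by linarith
  have hqc : ∑ i, q i * c i = -3 := by linarith
  have hpp : ∑ i, p i * p i = 3 := by linarith
  have hqq : ∑ i, q i * q i = 3 := by linarith
  have hpq : ∑ i, p i * q i = 1 := by linarith
  have hp01 := fun i => sq_sum_three univ p hpp i (mem_univ i)
  have hq01 := fun i => sq_sum_three univ q hqq i (mem_univ i)
  have hgpos : (g : ℚ) ≠ 0 := by exact_mod_cast (by omega : g ≠ 0)
  have hd0 : ∀ i, (d i : ℚ) ≠ 0 := fun i => by exact_mod_cast (hd i).ne'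
  have hp1 : p one = 0 := by linarith
  have hcbound : ∀ i, i ≠ one → c i * c i ≤ 8 := fun i hi => by
    have h := sum_le_sum_of_subset_of_nonneg (subset_univ ({one, i} : Finset ι))
      (fun j _ _ => mul_self_nonneg (c j))
    rw [sum_pair hi.symm, hc1, hcc] at h
    linarith
  set Kp := univ.filter (fun i => p i ≠ 0) with hKp
  have hKpc : Kp.card = 3 := by
    have h : ∑ i, p i * p i = ∑ i ∈ Kp, p i * p i :=
      sum_eq_support Kp _ fun i hi => by simp [hKp] at hi; simp [hi]
    rw [hpp, sum_congr rfl fun i hi => (hp01 i).resolve_left (mem_filter.mp hi).2, sum_const,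
      nsmul_one] at h
    exact_mod_cast h.symm
  set Kq := univ.filter (fun i => q i ≠ 0) with hKq
  have hKqc : Kq.card = 3 := by
    have h : ∑ i, q i * q i = ∑ i ∈ Kq, q i * q i :=
      sum_eq_support Kq _ fun i hi => by simp [hKq] at hi; simp [hi]
    rw [hqq, sum_congr rfl fun i hi => (hq01 i).resolve_left (mem_filter.mp hi).2, sum_const,
      nsmul_one] at h
    exact_mod_cast h.symm
  set K := Kp ∩ Kq with hK
  have hKs : ∑ i ∈ K, p i * q i = 1 := by
    rw [← hpq]
    refine (sum_eq_support K _ fun i hi => ?_).symm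
    simp [hK, hKp, hKq] at hi
    by_cases h : p i = 0
    · simp [h]
    · simp [hi h]
  have hmem : ∀ i ∈ K, i ≠ one ∧ p i * p i = 1 ∧ q i * q i = 1 := fun i hi => by
    simp [hK, hKp, hKq] at hi
    exact ⟨fun e => hi.1 (e ▸ hp1), (hp01 i).resolve_left hi.1, (hq01 i).resolve_left hi.2⟩
  have hpm : ∀ i ∈ K, (p i = 1 ∨ p i = -1) ∧ (q i = 1 ∨ q i = -1) := fun i hi =>
    ⟨mul_self_eq_one_iff.mp (hmem i hi).2.1, mul_self_eq_one_iff.mp (hmem i hi).2.2⟩
  have hKle : K.card ≤ 3 := hKpc ▸ card_le_card inter_subset_left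
  have hcases : K.card = 1 ∨ K.card = 3 := by
    have hodd : (∑ i ∈ K, p i * q i) % 2 = (K.card : ℤ) % 2 := by
      rw [sum_int_mod, sum_congr rfl fun i hi => show p i * q i % 2 = 1 by
        rcases hpm i hi with ⟨h | h, h' | h'⟩ <;> rw [h, h'] <;> rfl]
      simp
    rw [hKs] at hodd
    omega
  have hout : ∀ i ∉ K, p i = 0 ∨ q i = 0 := fun i hi => by
    simp [hK, hKp, hKq] at hi
    exact or_iff_not_imp_left.mpr hi
  rcases hcases with hc | hc
  · obtain ⟨i0, hi0⟩ := card_eq_one.mp hc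
    rw [hi0, sum_singleton] at hKs
    have hi0K : i0 ∈ K := by rw [hi0]; exact mem_singleton_self _
    have hzero : ∀ i, i ≠ i0 → (comb1 (3 * p i + c i) (3 * q i + c i) (c i) : ℚ) / (d i : ℚ) = 0 := by
      intro i hi
      have : comb1 (3 * p i + c i) (3 * q i + c i) (c i) = 0 := by
        rcases hout i (by rw [hi0]; simpa using hi) with h | h <;> simp only [comb1, h] <;> ring
      simp [this]
    rw [sum_eq_single i0 (fun i _ hi => hzero i hi) (by simp)] at h1
    have hq0 : q i0 = p i0 := by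
      rcases hpm i0 hi0K with ⟨h | h, h' | h'⟩ <;> rw [h, h'] at hKs ⊢ <;> norm_num at hKs
    have hF : comb1 (3 * p i0 + c i0) (3 * q i0 + c i0) (c i0) = -9 * (6 * p i0 + 2 * c i0) := by
      rw [hq0]
      simp only [comb1]
      linear_combination (-54 * p i0 - 18 * c i0) * (hmem i0 hi0K).2.1
    rw [hF, div_eq_div_iff (hd0 i0) hgpos] at h1
    have h3 : -9 * (6 * p i0 + 2 * c i0) * g = 324 * d i0 := by exact_mod_cast h1
    have h4 := hdg i0
    have h5 := hd i0
    have hc2 := hcbound i0 (hmem i0 hi0K).1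
    have hcl : -2 ≤ c i0 ∧ c i0 ≤ 2 := by constructor <;> nlinarith
    rw [hg] at h3 h4
    rcases (hpm i0 hi0K).1 with hpv | hpv <;> rw [hpv] at h3
    · nlinarith
    · have h6 : 2 * n ≤ d i0 := by nlinarith
      have h7 : n ≤ 9 := by nlinarith
      omega
  · have hKp' : K = Kp := eq_of_subset_of_card_le inter_subset_left (by omega)
    have hKq' : K = Kq := eq_of_subset_of_card_le inter_subset_right (by omega)
    have hzp : ∀ i ∉ K, p i = 0 ∧ q i = 0 := fun i hi => by
      constructor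
      · rw [hKp'] at hi; simpa [hKp] using hi
      · rw [hKq'] at hi; simpa [hKq] using hi
    obtain ⟨x, y, z, hxy, hxz, hyz, hKe⟩ := card_eq_three.mp hc
    rw [hKe] at hKs hmem hpm
    simp only [sum_insert, mem_insert, mem_singleton, hxy, hxz, hyz, not_false_eq_true, or_self,
      sum_singleton] at hKs
    have hsum : ∀ f : ι → ℤ, (∀ i, p i = 0 → q i = 0 → f i = 0) → ∑ i, f i = f x + (f y + f z) := by
      intro f hf
      rw [sum_eq_support K f fun i hi => hf i (hzp i hi).1 (hzp i hi).2, hKe]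
      simp [sum_insert, hxy, hxz, hyz]
    -- name the element with opposite signs `w` and the other two `u`, `v`
    obtain ⟨u, v, w, huv, huw, hvw, hu, hv, hw, hK3⟩ : ∃ u v w : ι, u ≠ v ∧ u ≠ w ∧ v ≠ w ∧
        q u = p u ∧ q v = p v ∧ q w = -p w ∧ ({u, v, w} : Finset ι) = K := by
      have hx := hpm x (by simp)
      have hy := hpm y (by simp)
      have hz := hpm z (by simp)
      have key : ∀ i, (p i = 1 ∨ p i = -1) ∧ (q i = 1 ∨ q i = -1) →
          (q i = p i ∧ p i * q i = 1) ∨ (q i = -p i ∧ p i * q i = -1) := by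
        rintro i ⟨h | h, h' | h'⟩ <;> simp [h, h']
      rcases key x hx with ⟨ex, fx⟩ | ⟨ex, fx⟩ <;> rcases key y hy with ⟨ey, fy⟩ | ⟨ey, fy⟩ <;>
        rcases key z hz with ⟨ez, fz⟩ | ⟨ez, fz⟩ <;> rw [fx, fy, fz] at hKs <;> norm_num at hKs
      · exact ⟨x, y, z, hxy, hxz, hyz, ex, ey, ez, hKe.symm⟩
      · refine ⟨x, z, y, hxz, hxy, hyz.symm, ex, ez, ey, ?_⟩
        rw [hKe]; ext i; simp only [mem_insert, mem_singleton]
        constructor <;> rintro (h | h | h) <;> simp [h]
      · refine ⟨y, z, x, hyz, hxy.symm, hxz.symm, ey, ez, ex, ?_⟩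
        rw [hKe]; ext i; simp only [mem_insert, mem_singleton]
        constructor <;> rintro (h | h | h) <;> simp [h]
    have hsum' : ∀ f : ι → ℤ, (∀ i, p i = 0 → q i = 0 → f i = 0) →
        ∑ i, f i = f u + (f v + f w) := by
      intro f hf
      rw [sum_eq_support K f fun i hi => hf i (hzp i hi).1 (hzp i hi).2, ← hK3]
      simp [sum_insert, huv, huw, hvw]
    rw [← hKe, ← hK3] at hmem
    obtain ⟨hu1, hu2, -⟩ := hmem u (by simp)
    obtain ⟨hv1, hv2, -⟩ := hmem v (by simp)
    obtain ⟨hw1, hw2, -⟩ := hmem w (by simp)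
    rw [hsum' _ fun i h _ => by simp [h]] at hpc
    rw [hsum' _ fun i _ h => by simp [h]] at hqc
    rw [hu, hv, hw] at hqc
    have hcw : c w = 0 := by
      rcases mul_self_eq_one_iff.mp hw2 with h | h <;> rw [h] at hpc hqc <;> linarith
    rw [hcw] at hpc
    have hcs : c u * c u + c v * c v ≤ 8 := by
      have h := sum_le_sum_of_subset_of_nonneg (subset_univ ({one, u, v} : Finset ι))
        (fun j _ _ => mul_self_nonneg (c j))
      simp [sum_insert, hu1.symm, hv1.symm, huv, hc1] at h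
      linarith
    obtain ⟨A, B, hA, hB, hAv, hBv, hq_A, hq_B, hAB⟩ : ∃ A B : ι, p A * c A = -1 ∧ p B * c B = -2 ∧
        p A * p A = 1 ∧ p B * p B = 1 ∧ q A = p A ∧ q B = p B ∧
        ∀ i, i ≠ A → i ≠ B → i ≠ w → p i = 0 ∧ q i = 0 := by
      have hother : ∀ i, i ≠ u → i ≠ v → i ≠ w → p i = 0 ∧ q i = 0 := fun i a b c =>
        hzp i (by rw [← hK3]; simp [a, b, c])
      have hb1 : -2 ≤ p u * c u ∧ p u * c u ≤ -1 := by
        rcases mul_self_eq_one_iff.mp hu2 with h | h <;>
          rcases mul_self_eq_one_iff.mp hv2 with h' | h' <;> rw [h, h'] at hpc <;> rw [h] <;>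
          constructor <;> nlinarith
      obtain ⟨ha, hb⟩ := hb1
      rcases (show p u * c u = -1 ∨ p u * c u = -2 by omega) with h | h
      · exact ⟨u, v, h, by linarith, hu2, hv2, hu, hv, hother⟩
      · exact ⟨v, u, by linarith, h, hv2, hu2, hv, hu, fun i a b c => hother i b a c⟩
    have hcA : c A = -p A := by linear_combination p A * hA - c A * hAv
    have hcB : c B = -2 * p B := by linear_combination p B * hB - c B * hBv
    have hzero : ∀ i, i ≠ A → (comb2 (3 * p i + c i) (3 * q i + c i) (c i) : ℚ) / (d i : ℚ) = 0 := by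
      intro i hi
      have : comb2 (3 * p i + c i) (3 * q i + c i) (c i) = 0 := by
        by_cases hiB : i = B
        · subst hiB; simp only [comb2, hq_B, hcB]; ring
        by_cases hiw : i = w
        · subst hiw; simp only [comb2, hw, hcw]; ring
        obtain ⟨e, e'⟩ := hAB i hi hiB hiw
        simp only [comb2, e, e']; ring
      simp [this]
    rw [sum_eq_single A (fun i _ hi => hzero i hi) (by simp)] at h2
    have hF : comb2 (3 * p A + c A) (3 * q A + c A) (c A) = -36 * p A := by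
      simp only [comb2, hq_A, hcA]
      linear_combination (-44 + 8 : ℤ) * p A * hAv
    rw [hF, div_eq_div_iff (hd0 A) hgpos] at h2
    have h3 : -36 * p A * g = 324 * d A := by exact_mod_cast h2
    have h4 := hdg A
    have h5 := hd A
    rw [hg] at h3 h4
    rcases mul_self_eq_one_iff.mp hAv with hpv | hpv <;> rw [hpv] at h3
    · nlinarith
    · have h6 : d A = 4 * n := by linarith
      rw [h6] at h4
      have h7 : n ≤ 2 := by nlinarith
      omega

end Cfsg.Agent.Lib.ThreeNine
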