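import Cfsg.Agent.Lib.ThreeNine.Coords
import Cfsg.Agent.Lib.Characters.Ortho
import Cfsg.Agent.Lib.Characters.Eigen
import Cfsg.Agent.Lib.Characters.Integrality
import Cfsg.Agent.Lib.Characters.Convolution

/-!
Character values on elements of order three, and the Sylow count.
-/

set_option autoImplicit false

namespace Cfsg.Agent.Lib.ThreeNine

open Cfsg Cfsg.Agent.Lib.Characters

variable {G : Type*} [Group G] [Finite G]

/-- A real character value at an element of order dividing three is an integer congruent to the degree. -/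
theorem exists_int_value {χ : G → ℂ} (hχ : IsCharacter G χ) {t : G} (ht : t ^ 3 = 1)
    (hreal : IsConj t t⁻¹) {d : ℕ} (hd : χ 1 = (d : ℂ)) :
    ∃ z : ℤ, χ t = (z : ℂ) ∧ (3 : ℤ) ∣ z - d := by
  classical
  have hre : (starRingEnd ℂ) (χ t) = χ t := by
    rw [← IsCharacter.apply_inv hχ, IsClassFunction.eq_of_isConj (IsCharacter.isClassFunction hχ) hreal]
  have hint := IsCharacter.isIntegral hχ t
  obtain ⟨n, ρ, rfl⟩ := hχ
  obtain ⟨ι, _, b, μ, hμ, hμ3⟩ := exists_eigenbasis (ρ t) (n := 3) (by norm_num)
    (by rw [← map_pow, ht, map_one])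
  have htr : ρ.character t = ∑ i, μ i := trace_eq_sum_eigen b _ μ hμ
  have hnd : Fintype.card ι = d := by
    have h1 : ρ.character 1 = (Fintype.card ι : ℂ) := by
      rw [ρ.char_one, Module.finrank_eq_card_basis b]
    rw [h1] at hd
    exact_mod_cast hd
  have hμre : ∀ i, (μ i).re = if μ i = 1 then 1 else -1 / 2 := by
    intro i
    split_ifs with h1
    · simp [h1]
    · have h2 : (μ i - 1) * (μ i ^ 2 + μ i + 1) = 0 := by linear_combination hμ3 i
      have h3 := (mul_eq_zero.mp h2).resolve_left (sub_ne_zero.mpr h1)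
      have hr := congrArg Complex.re h3
      have hi := congrArg Complex.im h3
      simp [pow_two, Complex.mul_re, Complex.mul_im] at hr hi
      have h4 : (μ i).im * (2 * (μ i).re + 1) = 0 := by linarith
      rcases mul_eq_zero.mp h4 with h5 | h5
      · exfalso
        rw [h5] at hr
        nlinarith
      · linarith
  obtain ⟨k, hk⟩ : ∃ k : ℕ, k = (Finset.univ.filter fun i => μ i = 1).card := ⟨_, rfl⟩
  have hre2 : 2 * (ρ.character t).re = 3 * (k : ℝ) - d := by
    rw [htr, Complex.re_sum, Finset.sum_congr rfl fun i _ => hμre i, Finset.sum_ite, Finset.sum_const,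
      Finset.sum_const, nsmul_eq_mul, nsmul_eq_mul, ← hk]
    have h5 := Finset.card_filter_add_card_filter_not (s := (Finset.univ : Finset ι))
      (fun i => μ i = 1)
    rw [← hk, Finset.card_univ, hnd] at h5
    have h6 : (k : ℝ) + ((Finset.univ.filter fun i => ¬ μ i = 1).card : ℝ) = (d : ℝ) := by
      exact_mod_cast h5
    linarith
  obtain ⟨q, hq⟩ : ∃ q : ℚ, q = (3 * (k : ℚ) - d) / 2 := ⟨_, rfl⟩
  have hval : ρ.character t = (q : ℂ) := by
    rw [← Complex.conj_eq_iff_re.mp hre]
    have : (ρ.character t).re = ((q : ℚ) : ℝ) := by rw [hq]; push_cast; linarith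
    rw [this]
    simp
  rw [hval] at hint
  obtain ⟨z, hz⟩ := exists_int_of_isIntegral_rat hint
  refine ⟨z, by rw [hval, hz]; simp, ?_⟩
  have h7 : 2 * z + (d : ℤ) = 3 * k := by
    have : 2 * (z : ℚ) + (d : ℚ) = 3 * (k : ℚ) := by rw [← hz, hq]; ring
    exact_mod_cast this
  omega

variable {T : Sylow 3 G}

/-- The number of Sylow `3`-subgroups is one modulo nine. -/
theorem Loc.index_mod (h : Loc T) :
    (Subgroup.normalizer ((T : Subgroup G) : Set G)).index % 9 = 1 := by
  classical
  set N := Subgroup.normalizer ((T : Subgroup G) : Set G)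
  let H := ↥(T : Subgroup G)
  haveI : Fintype H := Fintype.ofFinite _
  haveI : Fintype (G ⧸ N) := Fintype.ofFinite _
  have key : ∀ (u : G), u ∈ (T : Subgroup G) → u ≠ 1 → ∀ g : G,
      u • (QuotientGroup.mk g : G ⧸ N) = QuotientGroup.mk g → g ∈ N := by
    intro u hu hu1 g hg
    rw [MulAction.Quotient.smul_mk, QuotientGroup.eq, smul_eq_mul] at hg
    have h1 : g⁻¹ * u * g ∈ N := by
      have := inv_mem hg
      simpa [mul_assoc] using this
    have h2 := h.mem_of_normalizes (u := g⁻¹ * u * g) (by
      rw [show g⁻¹ * u * g = g⁻¹ * u * g⁻¹⁻¹ by group, conj_pow, h.cube u hu]; group) h1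
    have h3 := h.mem_normalizer (g := g⁻¹) hu hu1 (by simpa using h2)
    have h4 := inv_mem h3
    rwa [inv_inv] at h4
  have hbase : ∀ u : H, u • (QuotientGroup.mk 1 : G ⧸ N) = QuotientGroup.mk 1 := fun u => by
    rw [MulAction.compHom_smul_def, MulAction.Quotient.smul_mk, QuotientGroup.eq]
    simp only [smul_eq_mul, mul_one]
    exact inv_mem (Subgroup.le_normalizer u.2)
  have hcard : Fintype.card H = 9 := by rw [← Nat.card_eq_fintype_card]; exact h.card
  have horb : ∀ c : G ⧸ N, c ≠ QuotientGroup.mk 1 →
      (Finset.univ.image fun u : H => u • c).card = 9 := by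
    intro c hc
    rw [Finset.card_image_of_injective, Finset.card_univ, hcard]
    intro u v huv
    by_contra hne
    obtain ⟨g, rfl⟩ := QuotientGroup.mk_surjective c
    have hs : (v⁻¹ * u) • (QuotientGroup.mk g : G ⧸ N) = QuotientGroup.mk g := by
      rw [mul_smul]
      simp only at huv
      rw [huv, inv_smul_smul]
    have hgN := key _ (v⁻¹ * u).2 (fun e => hne (by
      have : v⁻¹ * u = 1 := Subtype.ext e
      exact (inv_mul_eq_one.mp this).symm)) g hs
    exact hc (QuotientGroup.eq.mpr (by simpa using inv_mem hgN))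
  -- count the other cosets orbit by orbit
  set S := Finset.univ.filter fun c : G ⧸ N => c ≠ QuotientGroup.mk 1
  have hdvd : 9 ∣ S.card := by
    rw [Finset.card_eq_sum_card_image (fun c => Finset.univ.image fun u : H => u • c) S]
    refine Finset.dvd_sum fun O hO => ?_
    obtain ⟨c, hc, rfl⟩ := Finset.mem_image.mp hO
    have hc1 := (Finset.mem_filter.mp hc).2
    have : (S.filter fun c' => (Finset.univ.image fun u : H => u • c') =
        Finset.univ.image fun u : H => u • c) = Finset.univ.image fun u : H => u • c := by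
      ext c'
      simp only [Finset.mem_filter, Finset.mem_image, Finset.mem_univ, true_and, S]
      constructor
      · rintro ⟨-, e⟩
        have : c' ∈ Finset.univ.image fun u : H => u • c := by
          rw [← e]
          exact Finset.mem_image.mpr ⟨1, Finset.mem_univ _, one_smul _ _⟩
        simpa using this
      · rintro ⟨u, rfl⟩
        refine ⟨fun e => hc1 ?_, ?_⟩
        · rw [← inv_smul_smul u c, e, hbase]
        · ext c'
          simp only [Finset.mem_image, Finset.mem_univ, true_and]
          constructor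
          · rintro ⟨v, rfl⟩; exact ⟨v * u, mul_smul _ _ _⟩
          · rintro ⟨v, rfl⟩; exact ⟨v * u⁻¹, by rw [← mul_smul, inv_mul_cancel_right]⟩
    rw [this, horb c hc1]
  have htot : S.card + 1 = N.index := by
    rw [Subgroup.index_eq_card, Nat.card_eq_fintype_card]
    have h1 : S = Finset.univ.erase (QuotientGroup.mk 1 : G ⧸ N) := by
      ext c; simp [S]
    rw [h1, Finset.card_erase_add_one (Finset.mem_univ _), Finset.card_univ]
  omega

end Cfsg.Agent.Lib.ThreeNine
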