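import Cfsg.Agent.Lib.ThreeNine.Setup

/-!
Coordinates on the Sylow `3`-subgroup and fusion.
-/

set_option autoImplicit false

namespace Cfsg.Agent.Lib.ThreeNine

open Subgroup

variable {G : Type*} [Group G] [Finite G] {T : Sylow 3 G}

local notation "𝓝" => normalizer ((T : Subgroup G) : Set G)

/-- The type of a nonzero vector. -/
def ty (z : ZMod 3 × ZMod 3) : Fin 4 :=
  if z.1 = 0 then (if z.2 = 0 then 0 else 2) else (if z.2 = 0 then 1 else 3)

/-- Coordinates adapted to the automiser. -/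
structure Coords (T : Sylow 3 G) (x y : G) : Prop where
  hx : x ∈ (T : Subgroup G)
  hy : y ∈ (T : Subgroup G)
  inj : ∀ z z' : ZMod 3 × ZMod 3,
    x ^ z.1.val * y ^ z.2.val = x ^ z'.1.val * y ^ z'.2.val → z = z'
  surj : ∀ u ∈ (T : Subgroup G), ∃ z : ZMod 3 × ZMod 3, x ^ z.1.val * y ^ z.2.val = u
  act : ∀ n ∈ normalizer ((T : Subgroup G) : Set G), ∃ s t : ZMod 3, s ≠ 0 ∧ t ≠ 0 ∧ n * x * n⁻¹ = x ^ s.val ∧ n * y * n⁻¹ = y ^ t.val
  real : ∀ s t : ZMod 3, s ≠ 0 → t ≠ 0 →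
    ∃ n ∈ normalizer ((T : Subgroup G) : Set G), n * x * n⁻¹ = x ^ s.val ∧ n * y * n⁻¹ = y ^ t.val

theorem Hyp.eq_of_sq (h : Hyp T) {u : G} (hu : u ∈ (T : Subgroup G)) (he : u = u⁻¹) : u = 1 := by
  have h3 := h.cube u hu
  have h2 : u * u = 1 := mul_eq_one_iff_eq_inv.mpr he
  rwa [pow_succ, pow_two, h2, one_mul] at h3

theorem Hyp.pow_val_mul (h : Hyp T) {u : G} (hu : u ∈ (T : Subgroup G)) (i j : ZMod 3) :
    u ^ i.val * u ^ j.val = u ^ (i + j).val := by
  rw [← pow_add, ZMod.val_add, pow_eq_pow_mod (i.val + j.val) (h.cube u hu)]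

theorem Hyp.pow_val_pow (h : Hyp T) {u : G} (hu : u ∈ (T : Subgroup G)) (i j : ZMod 3) :
    (u ^ i.val) ^ j.val = u ^ (i * j).val := by
  rw [← pow_mul, ZMod.val_mul, pow_eq_pow_mod (i.val * j.val) (h.cube u hu)]

theorem Hyp.exists_coords (h : Hyp T) : ∃ x y : G, Coords T x y := by
  classical
  have hconj : ∀ n ∈ 𝓝, ∀ u ∈ (T : Subgroup G), n * u * n⁻¹ ∈ (T : Subgroup G) := fun n hn u hu =>
    (hn u).mp hu
  have hinv : ∀ n ∈ 𝓝, ∀ u ∈ (T : Subgroup G), n * (n * u * n⁻¹) * n⁻¹ = u := by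
    intro n hn u hu
    calc n * (n * u * n⁻¹) * n⁻¹ = n * n * u * (n * n)⁻¹ := by group
      _ = u := by rw [h.comm _ (h.sq n hn) u hu, mul_inv_cancel_right]
  have hcent : ∀ n : G, (∀ u ∈ (T : Subgroup G), n * u * n⁻¹ = u) → n ∈ (T : Subgroup G) := by
    intro n hn
    rw [← h.self]
    exact fun u hu => (mul_inv_eq_iff_eq_mul.mp (hn u hu)).symm
  set Q := (T : Subgroup G).subgroupOf 𝓝
  have hQ : Nat.card (↥𝓝 ⧸ Q) = 4 := h.index
  haveI : Finite (↥𝓝 ⧸ Q) := inferInstance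
  -- an element acting neither trivially nor as inversion
  obtain ⟨n, hn, hn1, hn2⟩ : ∃ n ∈ 𝓝, n ∉ (T : Subgroup G) ∧
      ∃ u ∈ (T : Subgroup G), n * u * n⁻¹ ≠ u⁻¹ := by
    by_contra hcon
    push Not at hcon
    let f : ↥𝓝 ⧸ Q → Bool := fun c => decide (((Quotient.out c : ↥𝓝) : G) ∈ (T : Subgroup G))
    have hf : Function.Injective f := by
      intro c c' hcc
      have hiff := decide_eq_decide.mp hcc
      rw [← QuotientGroup.out_eq' c, ← QuotientGroup.out_eq' c', QuotientGroup.eq, mem_subgroupOf]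
      push_cast
      set m : G := ((Quotient.out c : ↥𝓝) : G)
      set m' : G := ((Quotient.out c' : ↥𝓝) : G)
      by_cases hm : m ∈ (T : Subgroup G)
      · exact mul_mem (inv_mem hm) (hiff.mp hm)
      · have hm' : m' ∉ (T : Subgroup G) := fun e => hm (hiff.mpr e)
        refine hcent _ fun u hu => ?_
        have e1 := hcon m' (Quotient.out c').2 hm' u hu
        have e2 := hcon m (Quotient.out c).2 hm u hu
        calc m⁻¹ * m' * u * (m⁻¹ * m')⁻¹ = m⁻¹ * (m' * u * m'⁻¹) * m := by group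
          _ = m⁻¹ * u⁻¹ * m := by rw [e1]
          _ = m⁻¹ * (m * u * m⁻¹) * m := by rw [e2]
          _ = u := by group
    have := Nat.card_le_card_of_injective f hf
    rw [hQ, Nat.card_eq_fintype_card, Fintype.card_bool] at this
    omega
  -- an inverted and a fixed element
  obtain ⟨u, hu, hune⟩ := hn2
  have hn2' : ∃ v ∈ (T : Subgroup G), n * v * n⁻¹ ≠ v := by
    by_contra hcon
    push Not at hcon
    exact hn1 (hcent n hcon)
  obtain ⟨v, hv, hvne⟩ := hn2'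
  have hu' := hconj n hn u hu
  have hv' := hconj n hn v hv
  obtain ⟨y, hy⟩ : ∃ y, y = u * (n * u * n⁻¹) := ⟨_, rfl⟩
  obtain ⟨x, hx⟩ : ∃ x, x = (n * v * n⁻¹) * v⁻¹ := ⟨_, rfl⟩
  have hyT : y ∈ (T : Subgroup G) := hy ▸ mul_mem hu hu'
  have hxT : x ∈ (T : Subgroup G) := hx ▸ mul_mem hv' (inv_mem hv)
  have hyfix : n * y * n⁻¹ = y := by
    rw [hy]
    calc n * (u * (n * u * n⁻¹)) * n⁻¹ = n * u * n⁻¹ * (n * (n * u * n⁻¹) * n⁻¹) := by group
      _ = u * (n * u * n⁻¹) := by rw [hinv n hn u hu, h.comm _ hu' u hu]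
  have hxinv : n * x * n⁻¹ = x⁻¹ := by
    rw [hx]
    calc n * ((n * v * n⁻¹) * v⁻¹) * n⁻¹ = n * (n * v * n⁻¹) * n⁻¹ * (n * v * n⁻¹)⁻¹ := by group
      _ = ((n * v * n⁻¹) * v⁻¹)⁻¹ := by rw [hinv n hn v hv, mul_inv_rev (n * v * n⁻¹) v⁻¹, inv_inv]
  have hy1 : y ≠ 1 := by
    rw [hy]
    exact fun e => hune (eq_inv_of_mul_eq_one_right e)
  have hx1 : x ≠ 1 := by
    rw [hx]
    exact fun e => hvne (mul_inv_eq_one.mp e)
  have hsplit : ∀ i j : ZMod 3, x ^ i.val = y ^ j.val → i = 0 ∧ j = 0 := by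
    intro i j e
    have hxi : x ^ i.val = 1 := by
      refine h.eq_of_sq (pow_mem hxT _) ?_
      calc x ^ i.val = n * y ^ j.val * n⁻¹ := by rw [← conj_pow, hyfix, e]
        _ = (x ^ i.val)⁻¹ := by rw [← e, ← conj_pow, hxinv, inv_pow]
    have hz : ∀ (w : G) (k : ZMod 3), w ≠ 1 → w ^ 3 = 1 → w ^ k.val = 1 → k = 0 := by
      intro w k hw hw3 hk
      haveI : Fact (Nat.Prime 3) := ⟨Nat.prime_three⟩
      have hd := orderOf_dvd_of_pow_eq_one hk
      rw [orderOf_eq_prime hw3 hw] at hd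
      exact (ZMod.val_eq_zero k).mp (Nat.eq_zero_of_dvd_of_lt hd (ZMod.val_lt k))
    exact ⟨hz x i hx1 (h.cube x hxT) hxi, hz y j hy1 (h.cube y hyT) (e ▸ hxi)⟩
  have hinj : ∀ z z' : ZMod 3 × ZMod 3,
      x ^ z.1.val * y ^ z.2.val = x ^ z'.1.val * y ^ z'.2.val → z = z' := by
    intro z z' e
    have h1 : x ^ (z.1 - z'.1).val = y ^ (z'.2 - z.2).val := by
      have ex : x ^ (z.1 - z'.1).val * x ^ z'.1.val = x ^ z.1.val := by
        rw [h.pow_val_mul hxT, sub_add_cancel]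
      have ey : y ^ (z'.2 - z.2).val * y ^ z.2.val = y ^ z'.2.val := by
        rw [h.pow_val_mul hyT, sub_add_cancel]
      rw [← ex, ← ey] at e
      have hc := h.comm _ (pow_mem hyT (z'.2 - z.2).val) _ (pow_mem hxT z'.1.val)
      rw [h.comm _ (pow_mem hxT (z.1 - z'.1).val) _ (pow_mem hxT z'.1.val), mul_assoc] at e
      exact mul_right_cancel (mul_left_cancel e)
    obtain ⟨e1, e2⟩ := hsplit _ _ h1
    exact Prod.ext (sub_eq_zero.mp e1) (sub_eq_zero.mp e2).symm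
  have hsurj : ∀ w ∈ (T : Subgroup G), ∃ z : ZMod 3 × ZMod 3, x ^ z.1.val * y ^ z.2.val = w := by
    intro w hw
    let f : ZMod 3 × ZMod 3 → ↥(T : Subgroup G) := fun z =>
      ⟨x ^ z.1.val * y ^ z.2.val, mul_mem (pow_mem hxT _) (pow_mem hyT _)⟩
    have hf : Function.Bijective f :=
      Function.Injective.bijective_of_nat_card_le (fun z z' e => hinj z z' (congrArg Subtype.val e))
        (le_of_eq (by
          rw [show Nat.card ↥(T : Subgroup G) = 9 from h.card, Nat.card_prod, Nat.card_zmod]))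
    obtain ⟨z, hz⟩ := hf.2 ⟨w, hw⟩
    exact ⟨z, congrArg Subtype.val hz⟩
  have hexp : ∀ w ∈ (T : Subgroup G), w ^ (2 : ZMod 3).val = w⁻¹ := fun w hw => by
    refine eq_inv_of_mul_eq_one_left ?_
    rw [show (2 : ZMod 3).val = 2 from rfl, ← pow_succ]
    exact h.cube w hw
  -- every element of the normaliser is diagonal
  have hact : ∀ m ∈ 𝓝, ∃ s t : ZMod 3, s ≠ 0 ∧ t ≠ 0 ∧
      m * x * m⁻¹ = x ^ s.val ∧ m * y * m⁻¹ = y ^ t.val := by
    intro m hm
    have hk : n * m * n⁻¹ * m⁻¹ ∈ (T : Subgroup G) := by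
      have key : n * m * n⁻¹ * m⁻¹ = (n * m) * (n * n)⁻¹ * (n * m)⁻¹ *
          ((n * m * n) * (m * m)⁻¹ * (n * m * n)⁻¹) * ((n * m) * (n * m)) := by
        group
      rw [key]
      exact mul_mem (mul_mem (hconj _ (mul_mem hn hm) _ (inv_mem (h.sq n hn)))
        (hconj _ (mul_mem (mul_mem hn hm) hn) _ (inv_mem (h.sq m hm)))) (h.sq _ (mul_mem hn hm))
    have hcomm : ∀ w ∈ (T : Subgroup G),
        n * (m * w * m⁻¹) * n⁻¹ = m * (n * w * n⁻¹) * m⁻¹ := by
      intro w hw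
      have h2 := h.comm _ hk _ (hconj m hm _ (hconj n hn w hw))
      calc n * (m * w * m⁻¹) * n⁻¹
          = n * m * n⁻¹ * m⁻¹ * (m * (n * w * n⁻¹) * m⁻¹) * (n * m * n⁻¹ * m⁻¹)⁻¹ := by group
        _ = m * (n * w * n⁻¹) * m⁻¹ := by rw [h2, mul_inv_cancel_right]
    obtain ⟨z, hz⟩ := hsurj _ (hconj m hm x hxT)
    obtain ⟨z', hz'⟩ := hsurj _ (hconj m hm y hyT)
    have hφ : ∀ z : ZMod 3 × ZMod 3, n * (x ^ z.1.val * y ^ z.2.val) * n⁻¹ =
        x ^ (z.1 * 2).val * y ^ z.2.val := fun z => by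
      rw [← conj_mul, ← conj_pow, ← conj_pow, hxinv, hyfix, ← hexp x hxT, h.pow_val_pow hxT,
        mul_comm z.1]
    have hzx : (z.1 * 2, z.2) = (z.1 * 2, z.2 * 2) := by
      refine hinj _ _ ?_
      dsimp only
      rw [← hφ, hz, hcomm x hxT, hxinv]
      calc m * x⁻¹ * m⁻¹ = (x ^ z.1.val * y ^ z.2.val)⁻¹ := by rw [hz]; group
        _ = _ := by
          rw [mul_inv_rev, h.comm _ (inv_mem (pow_mem hyT _)) _ (inv_mem (pow_mem hxT _)),
            ← hexp _ (pow_mem hxT _), ← hexp _ (pow_mem hyT _), h.pow_val_pow hxT, h.pow_val_pow hyT]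
    have hz2 : z.2 = 0 := by
      exact (by decide : ∀ c : ZMod 3, c = c * 2 → c = 0) _ (Prod.ext_iff.mp hzx).2
    have hzy : (z'.1 * 2, z'.2) = (z'.1, z'.2) := by
      refine hinj _ _ ?_
      dsimp only
      rw [← hφ, hz', hcomm y hyT, hyfix]
    have hz'1 : z'.1 = 0 := by
      exact (by decide : ∀ c : ZMod 3, c * 2 = c → c = 0) _ (Prod.ext_iff.mp hzy).1
    rw [hz2, ZMod.val_zero, pow_zero, mul_one] at hz
    rw [hz'1, ZMod.val_zero, pow_zero, one_mul] at hz'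
    refine ⟨z.1, z'.2, fun e => ?_, fun e => ?_, hz.symm, hz'.symm⟩
    · rw [e, ZMod.val_zero, pow_zero] at hz
      exact hx1 (conj_eq_one_iff.mp hz.symm)
    · rw [e, ZMod.val_zero, pow_zero] at hz'
      exact hy1 (conj_eq_one_iff.mp hz'.symm)
  refine ⟨x, y, hxT, hyT, hinj, hsurj, hact, fun s t hs ht => ?_⟩
  -- all four diagonal automorphisms occur
  choose fs ft hfs hft hfx hfy using hact
  let f : ↥𝓝 ⧸ Q → {z : ZMod 3 × ZMod 3 // z.1 ≠ 0 ∧ z.2 ≠ 0} := fun c =>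
    ⟨(fs _ (Quotient.out c).2, ft _ (Quotient.out c).2), hfs _ _, hft _ _⟩
  have hf : Function.Injective f := by
    intro c c' e
    have e1 := congrArg (fun z => z.1.1) e
    have e2 := congrArg (fun z => z.1.2) e
    simp only [f] at e1 e2
    rw [← QuotientGroup.out_eq' c, ← QuotientGroup.out_eq' c', QuotientGroup.eq, mem_subgroupOf]
    push_cast
    set m : G := ((Quotient.out c : ↥𝓝) : G)
    set m' : G := ((Quotient.out c' : ↥𝓝) : G)
    have gx : m * x * m⁻¹ = m' * x * m'⁻¹ := by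
      rw [hfx _ (Quotient.out c).2, hfx _ (Quotient.out c').2, e1]
    have gy : m * y * m⁻¹ = m' * y * m'⁻¹ := by
      rw [hfy _ (Quotient.out c).2, hfy _ (Quotient.out c').2, e2]
    have key : ∀ w, m * w * m⁻¹ = m' * w * m'⁻¹ → m⁻¹ * m' * w * (m⁻¹ * m')⁻¹ = w := fun w g => by
      calc m⁻¹ * m' * w * (m⁻¹ * m')⁻¹ = m⁻¹ * (m' * w * m'⁻¹) * m := by group
        _ = m⁻¹ * (m * w * m⁻¹) * m := by rw [g]
        _ = w := by group
    refine hcent _ fun w hw => ?_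
    obtain ⟨z, rfl⟩ := hsurj w hw
    rw [← conj_mul, ← conj_pow, ← conj_pow, key x gx, key y gy]
  have hcard : Nat.card {z : ZMod 3 × ZMod 3 // z.1 ≠ 0 ∧ z.2 ≠ 0} = 4 := by
    rw [Nat.card_eq_fintype_card]
    rfl
  obtain ⟨c, hc⟩ := (hf.bijective_of_nat_card_le (le_of_eq (by rw [hQ, hcard]))).2 ⟨(s, t), hs, ht⟩
  have h1 : fs _ (Quotient.out c).2 = s := congrArg (fun z => z.1.1) hc
  have h2 : ft _ (Quotient.out c).2 = t := congrArg (fun z => z.1.2) hc
  exact ⟨_, (Quotient.out c).2, h1 ▸ hfx _ (Quotient.out c).2, h2 ▸ hfy _ (Quotient.out c).2⟩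

variable {x y : G}

/-- The element with given coordinates. -/
def el (x y : G) (z : ZMod 3 × ZMod 3) : G := x ^ z.1.val * y ^ z.2.val

theorem Coords.el_mem (c : Coords T x y) (z : ZMod 3 × ZMod 3) : el x y z ∈ (T : Subgroup G) :=
  mul_mem (pow_mem c.hx _) (pow_mem c.hy _)

theorem Coords.el_add (c : Coords T x y) (h : Hyp T) (z z' : ZMod 3 × ZMod 3) :
    el x y z * el x y z' = el x y (z + z') := by
  unfold el
  rw [Prod.fst_add, Prod.snd_add, ← h.pow_val_mul c.hx, ← h.pow_val_mul c.hy, mul_assoc, mul_assoc,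
    ← mul_assoc (y ^ z.2.val), h.comm _ (pow_mem c.hy z.2.val) _ (pow_mem c.hx z'.1.val), mul_assoc]

theorem Coords.el_eq_one (c : Coords T x y) {z : ZMod 3 × ZMod 3} : el x y z = 1 ↔ z = 0 := by
  refine ⟨fun e => c.inj z 0 (e.trans (by simp)), ?_⟩
  rintro rfl
  simp [el]

theorem Coords.el_inv (c : Coords T x y) (h : Hyp T) (z : ZMod 3 × ZMod 3) :
    (el x y z)⁻¹ = el x y (-z) :=
  inv_eq_of_mul_eq_one_right (by rw [c.el_add h, add_neg_cancel, c.el_eq_one])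

theorem Coords.conj_el (c : Coords T x y) (h : Hyp T) {n : G} {s t : ZMod 3}
    (hnx : n * x * n⁻¹ = x ^ s.val) (hny : n * y * n⁻¹ = y ^ t.val) (z : ZMod 3 × ZMod 3) :
    n * el x y z * n⁻¹ = el x y (s * z.1, t * z.2) := by
  unfold el
  rw [← conj_mul, ← conj_pow, ← conj_pow, hnx, hny, h.pow_val_pow c.hx, h.pow_val_pow c.hy]

theorem ty_mul : ∀ (s t : ZMod 3) (z : ZMod 3 × ZMod 3), s ≠ 0 → t ≠ 0 →
    ty (s * z.1, t * z.2) = ty z := by decide

theorem exists_scale : ∀ z z' : ZMod 3 × ZMod 3, ty z = ty z' →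
    ∃ s t : ZMod 3, s ≠ 0 ∧ t ≠ 0 ∧ (s * z.1, t * z.2) = z' := by decide

theorem Coords.isConj_iff_ty (c : Coords T x y) (h : Hyp T) (z z' : ZMod 3 × ZMod 3) :
    IsConj (el x y z) (el x y z') ↔ ty z = ty z' := by
  constructor
  · intro hc
    obtain ⟨g, hg⟩ := isConj_iff.mp hc
    by_cases hz : z = 0
    · have he : el x y z = 1 := c.el_eq_one.mpr hz
      rw [he] at hc
      rw [hz, c.el_eq_one.mp (isConj_one_right.mp hc)]
    · have hn := h.mem_normalizer (c.el_mem z) (fun e => hz (c.el_eq_one.mp e))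
        (hg.symm ▸ c.el_mem z')
      obtain ⟨s, t, hs, ht, hnx, hny⟩ := c.act g hn
      rw [c.conj_el h hnx hny] at hg
      rw [← c.inj _ _ hg, ty_mul s t z hs ht]
  · intro e
    obtain ⟨s, t, hs, ht, hst⟩ := exists_scale z z' e
    obtain ⟨n, -, hnx, hny⟩ := c.real s t hs ht
    exact isConj_iff.mpr ⟨n, by rw [c.conj_el h hnx hny, hst]⟩

theorem Coords.exists_conj (c : Coords T x y) (h : Hyp T) {u : G} (hu : u ^ 3 = 1) :
    ∃ z, IsConj u (el x y z) := by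
  obtain ⟨g, hg⟩ := h.exists_conj_le (P := zpowers u) (IsPGroup.of_card_dvd_pow (n := 1) (by
    rw [Nat.card_zpowers, pow_one]; exact orderOf_dvd_of_pow_eq_one hu))
  obtain ⟨z, hz⟩ := c.surj _ (hg u (mem_zpowers u))
  exact ⟨z, isConj_iff.mpr ⟨g, hz.symm⟩⟩

/-- The pairs with given classes and product lie in `T`, unless all three types agree. -/
theorem Coords.card_pairs (c : Coords T x y) (h : Hyp T) (a b w : ZMod 3 × ZMod 3)
    (hw : w ≠ 0) (hne : ¬ (ty a = ty b ∧ ty a = ty w)) :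
    Nat.card {pq : G × G // IsConj (el x y a) pq.1 ∧ IsConj (el x y b) pq.2 ∧
        pq.1 * pq.2 = el x y w} =
      (Finset.univ.filter (fun z => ty z = ty a ∧ ty (w - z) = ty b)).card := by
  classical
  have hinw : ∀ z, ty z = ty a ∧ ty (w - z) = ty b →
      IsConj (el x y a) (el x y z) ∧ IsConj (el x y b) (el x y (w - z)) ∧
        el x y z * el x y (w - z) = el x y w := fun z hz =>
    ⟨(c.isConj_iff_ty h _ _).mpr hz.1.symm, (c.isConj_iff_ty h _ _).mpr hz.2.symm,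
      by rw [c.el_add h, add_sub_cancel]⟩
  let f : {z : ZMod 3 × ZMod 3 // ty z = ty a ∧ ty (w - z) = ty b} →
      {pq : G × G // IsConj (el x y a) pq.1 ∧ IsConj (el x y b) pq.2 ∧ pq.1 * pq.2 = el x y w} :=
    fun z => ⟨(el x y z, el x y (w - z)), hinw z z.2⟩
  have hf : Function.Bijective f := by
    refine ⟨fun z z' e => Subtype.ext (c.inj _ _ (congrArg (fun r => r.1.1) e)), ?_⟩
    rintro ⟨⟨p, q⟩, hp, hq, hpq⟩
    have hpow : ∀ {u v : G}, IsConj u v → u ^ 3 = 1 → v ^ 3 = 1 := by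
      intro u v huv hu
      obtain ⟨g, rfl⟩ := isConj_iff.mp huv
      rw [conj_pow, hu, mul_one, mul_inv_cancel]
    have hp3 : p ^ 3 = 1 := hpow hp (h.cube _ (c.el_mem a))
    have hq3 : q ^ 3 = 1 := hpow hq (h.cube _ (c.el_mem b))
    dsimp only at hp hq hpq
    rcases h.commute_or_conj hp3 hq3 (by rw [hpq]; exact h.cube _ (c.el_mem w)) with hc | ⟨h1, h2⟩
    · have hpT : p ∈ (T : Subgroup G) := h.mem_of_commute (c.el_mem w)
        (fun e => hw (c.el_eq_one.mp e)) hp3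
        (by rw [← hpq, ← mul_assoc, mul_assoc p q p, ← hc, mul_assoc])
      have hpT' : ∃ z, el x y z = p := c.surj p hpT
      obtain ⟨z, hz⟩ := hpT'
      have hqz : q = el x y (w - z) := by
        rw [sub_eq_neg_add, ← c.el_add h, ← c.el_inv h, hz, ← hpq, inv_mul_cancel_left]
      refine ⟨⟨z, ?_, ?_⟩, Subtype.ext (Prod.ext hz hqz.symm)⟩
      · rw [← hz] at hp
        exact ((c.isConj_iff_ty h _ _).mp hp).symm
      · rw [hqz] at hq
        exact ((c.isConj_iff_ty h _ _).mp hq).symm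
    · exfalso
      refine hne ⟨(c.isConj_iff_ty h _ _).mp ((hp.trans h1).trans hq.symm), ?_⟩
      rw [hpq] at h2
      have h3 : IsConj (el x y a)⁻¹ p⁻¹ := by
        obtain ⟨g, hg⟩ := isConj_iff.mp hp
        exact isConj_iff.mpr ⟨g, by rw [← hg]; group⟩
      rw [c.el_inv h] at h3
      have e := (c.isConj_iff_ty h _ _).mp (h3.trans h2)
      rwa [(by decide : ∀ z : ZMod 3 × ZMod 3, ty (-z) = ty z) a] at e
  rw [← Nat.card_congr (Equiv.ofBijective f hf), Nat.card_eq_fintype_card, Fintype.card_subtype]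

/-- Centraliser orders. -/
theorem Coords.card_centralizer (c : Coords T x y) (h : Hyp T) :
    Nat.card (centralizer ({el x y (1, 0)} : Set G)) = 18 ∧
      Nat.card (centralizer ({el x y (0, 1)} : Set G)) = 18 ∧
      Nat.card (centralizer ({el x y (1, 1)} : Set G)) = 9 := by
  have hN : Nat.card 𝓝 = 36 := by
    rw [← Subgroup.card_mul_index ((T : Subgroup G).subgroupOf 𝓝), h.index,
      Nat.card_congr (Subgroup.subgroupOfEquivOfLe (Subgroup.le_normalizer)).toEquiv,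
      show Nat.card ↥(T : Subgroup G) = 9 from h.card]
  have hle : ∀ z, (T : Subgroup G) ≤ centralizer ({el x y z} : Set G) := fun z u hu =>
    mem_centralizer_singleton_iff.mpr (h.comm u hu _ (c.el_mem z))
  have hmem : ∀ z n (s t : ZMod 3), n * x * n⁻¹ = x ^ s.val → n * y * n⁻¹ = y ^ t.val →
      (n ∈ centralizer ({el x y z} : Set G) ↔ (s * z.1, t * z.2) = z) := by
    intro z n s t hnx hny
    rw [mem_centralizer_singleton_iff, ← mul_inv_eq_iff_eq_mul, c.conj_el h hnx hny]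
    exact ⟨c.inj _ _, congrArg _⟩
  have h18 : ∀ z : ZMod 3 × ZMod 3, z ≠ 0 → (∃ s t : ZMod 3, s ≠ 0 ∧ t ≠ 0 ∧ (s * z.1, t * z.2) ≠ z) →
      (∃ s t : ZMod 3, s ≠ 0 ∧ t ≠ 0 ∧ (s, t) ≠ (1, 1) ∧ (s * z.1, t * z.2) = z) →
      Nat.card (centralizer ({el x y z} : Set G)) = 18 := by
    intro z hz ⟨s, t, hs, ht, hne⟩ ⟨s', t', hs', ht', h11, heq⟩
    have hloc : centralizer ({el x y z} : Set G) ≤ 𝓝 :=
      h.loc _ (c.el_mem z) (fun e => hz (c.el_eq_one.mp e))
    obtain ⟨n, hn, hnx, hny⟩ := c.real s t hs ht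
    obtain ⟨m, -, hmx, hmy⟩ := c.real s' t' hs' ht'
    have hne36 : centralizer ({el x y z} : Set G) ≠ 𝓝 := fun e =>
      hne ((hmem z n s t hnx hny).mp (e.symm ▸ hn))
    have hne9 : (T : Subgroup G) ≠ centralizer ({el x y z} : Set G) := fun e => by
      have hm : m ∈ (T : Subgroup G) := e.symm ▸ (hmem z m s' t' hmx hmy).mpr heq
      have e1 : m * x * m⁻¹ = x := by rw [h.comm m hm x c.hx, mul_inv_cancel_right]
      have e2 : m * y * m⁻¹ = y := by rw [h.comm m hm y c.hy, mul_inv_cancel_right]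
      have i1 := c.inj (s', 0) (1, 0) (by simpa [hmx, ZMod.val_one] using e1)
      have i2 := c.inj (0, t') (0, 1) (by simpa [hmy, ZMod.val_one] using e2)
      exact h11 (Prod.ext (Prod.ext_iff.mp i1).1 (Prod.ext_iff.mp i2).2)
    have d1 := Subgroup.card_dvd_of_le (hle z)
    have d2 := Subgroup.card_dvd_of_le hloc
    rw [hN] at d2
    rw [show Nat.card ↥(T : Subgroup G) = 9 from h.card] at d1
    have hmem36 : Nat.card (centralizer ({el x y z} : Set G)) ≠ 36 := fun e =>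
      hne36 (Subgroup.eq_of_le_of_card_ge hloc (by rw [hN, e]))
    have hmem9 : Nat.card (centralizer ({el x y z} : Set G)) ≠ 9 := fun e =>
      hne9 (Subgroup.eq_of_le_of_card_ge (hle z) (le_of_eq (e.trans h.card.symm)))
    obtain ⟨k, hk⟩ := d1
    rw [hk] at d2 hmem36 hmem9 ⊢
    have hk4 : k ∣ 4 := (Nat.mul_dvd_mul_iff_left (by norm_num : 0 < 9)).mp d2
    have : k ≤ 4 := Nat.le_of_dvd (by norm_num) hk4
    interval_cases k <;> omega
  refine ⟨h18 (1, 0) (by decide) (by decide) (by decide),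
    h18 (0, 1) (by decide) (by decide) (by decide), ?_⟩
  rw [← show Nat.card ↥(T : Subgroup G) = 9 from h.card]
  congr 2
  refine le_antisymm (fun n hn => ?_) (hle _)
  obtain ⟨s, t, -, -, hnx, hny⟩ := c.act n
    (h.loc _ (c.el_mem _) (fun e => (by decide : ((1, 1) : ZMod 3 × ZMod 3) ≠ 0) (c.el_eq_one.mp e)) hn)
  have e := (hmem (1, 1) n s t hnx hny).mp hn
  simp only [mul_one, Prod.mk.injEq] at e
  rw [e.1, ZMod.val_one, pow_one] at hnx
  rw [e.2, ZMod.val_one, pow_one] at hny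
  rw [← h.self]
  intro u hu
  obtain ⟨z, rfl⟩ := c.surj u hu
  have := c.conj_el h (s := 1) (t := 1) (by rw [ZMod.val_one, pow_one, hnx])
    (by rw [ZMod.val_one, pow_one, hny]) z
  simp only [one_mul, el] at this
  exact (mul_inv_eq_iff_eq_mul.mp this).symm

end Cfsg.Agent.Lib.ThreeNine
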