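import Cfsg.Agent.Lib.ThreeNine.Coords
import Cfsg.Agent.Lib.ThreeNine.Values

/-!
A Sylow `3`-subgroup of order nine which is the centraliser of each of its nonidentity elements.
-/

set_option autoImplicit false

namespace Cfsg.Agent.Lib.ThreeNine

open Subgroup

variable {G : Type*} [Group G] [Finite G] {T : Sylow 3 G}

local notation "𝓝" => normalizer ((T : Subgroup G) : Set G)

/-- The centraliser of each nonidentity element of `T` is `T`. -/
structure Fpf (T : Sylow 3 G) : Prop extends Loc T where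
  cc : ∀ t ∈ (T : Subgroup G), t ≠ 1 → Subgroup.centralizer ({t} : Set G) = T

/-- Two coordinates. -/
structure Axes (T : Sylow 3 G) (x y : G) : Prop where
  hx : x ∈ (T : Subgroup G)
  hy : y ∈ (T : Subgroup G)
  inj : ∀ z z' : ZMod 3 × ZMod 3, el x y z = el x y z' → z = z'
  surj : ∀ u ∈ (T : Subgroup G), ∃ z : ZMod 3 × ZMod 3, el x y z = u

theorem Loc.pow_val_mul' (h : Loc T) {u : G} (hu : u ∈ (T : Subgroup G)) (i j : ZMod 3) :
    u ^ i.val * u ^ j.val = u ^ (i + j).val := by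
  rw [← pow_add, ZMod.val_add, pow_eq_pow_mod (i.val + j.val) (h.cube u hu)]

theorem exists_mul_eq_one : ∀ k : ZMod 3, k ≠ 0 → ∃ j : ZMod 3, k * j = 1 := by decide

theorem Loc.exists_axes (h : Loc T) {x : G} (hx : x ∈ (T : Subgroup G)) {y : G}
    (hy : y ∈ (T : Subgroup G)) (hx1 : x ≠ 1) (hne : ∀ i : ℕ, y ≠ x ^ i) : Axes T x y := by
  haveI : Fact (Nat.Prime 3) := ⟨Nat.prime_three⟩
  have hox : orderOf x = 3 := orderOf_eq_prime (h.cube x hx) hx1
  have hinj : ∀ z z' : ZMod 3 × ZMod 3, el x y z = el x y z' → z = z' := by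
    intro z z' e
    unfold el at e
    have h1 : y ^ (z.2 - z'.2).val = x ^ (z'.1 - z.1).val := by
      have ex : x ^ (z'.1 - z.1).val * x ^ z.1.val = x ^ z'.1.val := by
        rw [h.pow_val_mul' hx, sub_add_cancel]
      have ey : y ^ (z.2 - z'.2).val * y ^ z'.2.val = y ^ z.2.val := by
        rw [h.pow_val_mul' hy, sub_add_cancel]
      rw [← ex, ← ey, h.comm _ (pow_mem hx (z'.1 - z.1).val) _ (pow_mem hx z.1.val), mul_assoc] at e
      exact mul_right_cancel (mul_left_cancel e)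
    have h2 : z.2 - z'.2 = 0 := by
      by_contra hk
      obtain ⟨j, hj⟩ := exists_mul_eq_one _ hk
      refine hne ((z'.1 - z.1).val * j.val) ?_
      rw [pow_mul, ← h1, ← pow_mul,
        pow_eq_pow_mod ((z.2 - z'.2).val * j.val) (h.cube y hy), ← ZMod.val_mul, hj, ZMod.val_one,
        pow_one]
    rw [h2, ZMod.val_zero, pow_zero] at h1
    have h3 : z'.1 - z.1 = 0 := by
      have hd := orderOf_dvd_of_pow_eq_one h1.symm
      rw [hox] at hd
      exact (ZMod.val_eq_zero _).mp (Nat.eq_zero_of_dvd_of_lt hd (ZMod.val_lt _))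
    exact Prod.ext (sub_eq_zero.mp h3).symm (sub_eq_zero.mp h2)
  refine ⟨hx, hy, hinj, fun w hw => ?_⟩
  let f : ZMod 3 × ZMod 3 → ↥(T : Subgroup G) := fun z =>
    ⟨el x y z, mul_mem (pow_mem hx _) (pow_mem hy _)⟩
  have hf : Function.Bijective f :=
    Function.Injective.bijective_of_nat_card_le (fun z z' e => hinj z z' (congrArg Subtype.val e))
      (le_of_eq (by
        rw [show Nat.card ↥(T : Subgroup G) = 9 from h.card, Nat.card_prod, Nat.card_zmod]))
  obtain ⟨z, hz⟩ := hf.2 ⟨w, hw⟩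
  exact ⟨z, congrArg Subtype.val hz⟩

variable {x y : G}

theorem Axes.el_mem (c : Axes T x y) (z : ZMod 3 × ZMod 3) : el x y z ∈ (T : Subgroup G) :=
  mul_mem (pow_mem c.hx _) (pow_mem c.hy _)

theorem Axes.el_add (c : Axes T x y) (h : Loc T) (z z' : ZMod 3 × ZMod 3) :
    el x y z * el x y z' = el x y (z + z') := by
  unfold el
  rw [Prod.fst_add, Prod.snd_add, ← h.pow_val_mul' c.hx, ← h.pow_val_mul' c.hy, mul_assoc, mul_assoc,
    ← mul_assoc (y ^ z.2.val), h.comm _ (pow_mem c.hy z.2.val) _ (pow_mem c.hx z'.1.val), mul_assoc]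

theorem Axes.el_eq_one (c : Axes T x y) {z : ZMod 3 × ZMod 3} : el x y z = 1 ↔ z = 0 := by
  refine ⟨fun e => c.inj z 0 (e.trans (by simp [el])), ?_⟩
  rintro rfl
  simp [el]

theorem Axes.el_inv (c : Axes T x y) (h : Loc T) (z : ZMod 3 × ZMod 3) :
    (el x y z)⁻¹ = el x y (-z) :=
  inv_eq_of_mul_eq_one_right (by rw [c.el_add h, add_neg_cancel, c.el_eq_one])

/-- Pairs from given classes with product in `T` lie in `T`, unless the three classes agree. -/
theorem Axes.card_pairs {α : Type*} [DecidableEq α] (c : Axes T x y) (h : Loc T)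
    (κ : ZMod 3 × ZMod 3 → α) (hκ : ∀ z z', IsConj (el x y z) (el x y z') ↔ κ z = κ z')
    (hneg : ∀ z, κ (-z) = κ z) (a b w : ZMod 3 × ZMod 3) (hw : w ≠ 0)
    (hne : ¬ (κ a = κ b ∧ κ a = κ w)) :
    Nat.card {pq : G × G // IsConj (el x y a) pq.1 ∧ IsConj (el x y b) pq.2 ∧
        pq.1 * pq.2 = el x y w} =
      (Finset.univ.filter (fun z => κ z = κ a ∧ κ (w - z) = κ b)).card := by
  classical
  have hinw : ∀ z, κ z = κ a ∧ κ (w - z) = κ b →
      IsConj (el x y a) (el x y z) ∧ IsConj (el x y b) (el x y (w - z)) ∧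
        el x y z * el x y (w - z) = el x y w := fun z hz =>
    ⟨(hκ _ _).mpr hz.1.symm, (hκ _ _).mpr hz.2.symm,
      by rw [c.el_add h, add_sub_cancel]⟩
  let f : {z : ZMod 3 × ZMod 3 // κ z = κ a ∧ κ (w - z) = κ b} →
      {pq : G × G // IsConj (el x y a) pq.1 ∧ IsConj (el x y b) pq.2 ∧ pq.1 * pq.2 = el x y w} :=
    fun z => ⟨(el x y z, el x y (w - z)), hinw z z.2⟩
  have hf : Function.Bijective f := by
    refine ⟨fun z z' e => Subtype.ext (c.inj _ _ (congrArg (fun r => r.1.1) e)), ?_⟩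
    rintro ⟨⟨p, q⟩, hp, hq, hpq⟩
    have hpow : ∀ {u v : G}, IsConj u v → u ^ 3 = 1 → v ^ 3 = 1 := by
      intro u v huv hu
      obtain ⟨g, rfl⟩ := isConj_iff.mp huv
      rw [conj_pow, hu, mul_one, mul_inv_cancel]
    have hp3 : p ^ 3 = 1 := hpow hp (h.cube _ (c.el_mem a))
    have hq3 : q ^ 3 = 1 := hpow hq (h.cube _ (c.el_mem b))
    dsimp only at hp hq hpq
    rcases h.commute_or_conj hp3 hq3 (by rw [hpq]; exact h.cube _ (c.el_mem w)) with hc | ⟨h1, h2⟩
    · have hpT : p ∈ (T : Subgroup G) := h.mem_of_commute (c.el_mem w)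
        (fun e => hw (c.el_eq_one.mp e)) hp3
        (by rw [← hpq, ← mul_assoc, mul_assoc p q p, ← hc, mul_assoc])
      obtain ⟨z, hz⟩ := c.surj p hpT
      have hqz : q = el x y (w - z) := by
        rw [sub_eq_neg_add, ← c.el_add h, ← c.el_inv h, hz, ← hpq, inv_mul_cancel_left]
      refine ⟨⟨z, ?_, ?_⟩, Subtype.ext (Prod.ext hz hqz.symm)⟩
      · rw [← hz] at hp
        exact ((hκ _ _).mp hp).symm
      · rw [hqz] at hq
        exact ((hκ _ _).mp hq).symm
    · exfalso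
      refine hne ⟨(hκ _ _).mp ((hp.trans h1).trans hq.symm), ?_⟩
      rw [hpq] at h2
      have h3 : IsConj (el x y a)⁻¹ p⁻¹ := by
        obtain ⟨g, hg⟩ := isConj_iff.mp hp
        exact isConj_iff.mpr ⟨g, by rw [← hg]; group⟩
      rw [c.el_inv h] at h3
      have e := (hκ _ _).mp (h3.trans h2)
      rwa [hneg] at e
  rw [← Nat.card_congr (Equiv.ofBijective f hf), Nat.card_eq_fintype_card, Fintype.card_subtype]

/-- The class of a nonidentity element meets `T` in as many elements as the automiser has. -/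
theorem Fpf.card_class (h : Fpf T) {u : G} (hu : u ∈ (T : Subgroup G)) (hu1 : u ≠ 1) :
    Nat.card {v : ↥(T : Subgroup G) // IsConj u (v : G)} =
      ((T : Subgroup G).subgroupOf 𝓝).index := by
  rw [Subgroup.index_eq_card]
  let f : ↥𝓝 ⧸ (T : Subgroup G).subgroupOf 𝓝 → {v : ↥(T : Subgroup G) // IsConj u (v : G)} :=
    fun c => ⟨⟨_, ((Quotient.out c).2 u).mp hu⟩, isConj_iff.mpr ⟨_, rfl⟩⟩
  refine (Nat.card_eq_of_bijective f ⟨fun c c' e => ?_, fun v => ?_⟩).symm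
  · have e1 : (Quotient.out c : ↥𝓝).1 * u * (Quotient.out c : ↥𝓝).1⁻¹ =
        (Quotient.out c' : ↥𝓝).1 * u * (Quotient.out c' : ↥𝓝).1⁻¹ :=
      congrArg (fun r => ((r.1 : ↥(T : Subgroup G)) : G)) e
    rw [← QuotientGroup.out_eq' c, ← QuotientGroup.out_eq' c', QuotientGroup.eq, mem_subgroupOf]
    push_cast
    refine (h.cc u hu hu1).le ?_
    set m : G := ((Quotient.out c : ↥𝓝) : G)
    set m' : G := ((Quotient.out c' : ↥𝓝) : G)
    refine mem_centralizer_singleton_iff.mpr (mul_inv_eq_iff_eq_mul.mp ?_)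
    calc m⁻¹ * m' * u * (m⁻¹ * m')⁻¹ = m⁻¹ * (m' * u * m'⁻¹) * m := by group
      _ = u := by rw [← e1]; group
  · obtain ⟨g, hg⟩ := isConj_iff.mp v.2
    have hgN : g ∈ 𝓝 := h.mem_normalizer hu hu1 (hg.symm ▸ v.1.2)
    refine ⟨QuotientGroup.mk ⟨g, hgN⟩, Subtype.ext (Subtype.ext ?_)⟩
    obtain ⟨t, ht⟩ := QuotientGroup.mk_out_eq_mul ((T : Subgroup G).subgroupOf 𝓝) ⟨g, hgN⟩
    show (Quotient.out (QuotientGroup.mk ⟨g, hgN⟩) : ↥𝓝).1 * u *
      (Quotient.out (QuotientGroup.mk ⟨g, hgN⟩) : ↥𝓝).1⁻¹ = _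
    rw [ht, ← hg]
    push_cast
    have htT : ((t : ↥𝓝) : G) ∈ (T : Subgroup G) := mem_subgroupOf.mp t.2
    calc g * (t : ↥𝓝).1 * u * (g * (t : ↥𝓝).1)⁻¹
        = g * ((t : ↥𝓝).1 * u * (t : ↥𝓝).1⁻¹) * g⁻¹ := by group
      _ = g * u * g⁻¹ := by rw [h.comm _ htT u hu, mul_inv_cancel_right]

/-- An automiser of even order inverts. -/
theorem Fpf.isConj_inv (h : Fpf T) (h2 : 2 ∣ ((T : Subgroup G).subgroupOf 𝓝).index) {u : G}
    (hu : u ∈ (T : Subgroup G)) : IsConj u u⁻¹ := by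
  haveI : ((T : Subgroup G).subgroupOf 𝓝).Normal := Subgroup.normal_in_normalizer
  haveI : Fact (Nat.Prime 2) := ⟨Nat.prime_two⟩
  rw [Subgroup.index_eq_card] at h2
  obtain ⟨c, hc⟩ := exists_prime_orderOf_dvd_card' 2 h2
  obtain ⟨⟨n, hn⟩, rfl⟩ := QuotientGroup.mk_surjective c
  have hn2 : n * n ∈ (T : Subgroup G) := by
    have h1 := pow_orderOf_eq_one (QuotientGroup.mk ⟨n, hn⟩ : ↥𝓝 ⧸ (T : Subgroup G).subgroupOf 𝓝)
    rw [hc, ← QuotientGroup.mk_pow, QuotientGroup.eq_one_iff, mem_subgroupOf, sq] at h1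
    simpa using h1
  have hnT : n ∉ (T : Subgroup G) := fun e => by
    rw [(QuotientGroup.eq_one_iff _).mpr (mem_subgroupOf.mpr e), orderOf_one] at hc
    exact absurd hc (by norm_num)
  have hu' : n * u * n⁻¹ ∈ (T : Subgroup G) := (hn u).mp hu
  refine isConj_iff.mpr ⟨n, ?_⟩
  by_contra hne
  refine hnT ?_
  rw [← h.cc (u * (n * u * n⁻¹)) (mul_mem hu hu') (fun e => hne (eq_inv_of_mul_eq_one_right e))]
  refine mem_centralizer_singleton_iff.mpr (mul_inv_eq_iff_eq_mul.mp ?_)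
  calc n * (u * (n * u * n⁻¹)) * n⁻¹ = n * u * n⁻¹ * (n * n * u * (n * n)⁻¹) := by group
    _ = u * (n * u * n⁻¹) := by rw [h.comm _ hn2 u hu, mul_inv_cancel_right, h.comm _ hu' u hu]

end Cfsg.Agent.Lib.ThreeNine
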