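import Cfsg.Agent.Lib.ThreeNine.Fpf

/-!
The part of the character table on a fixed-point-free Sylow `3`-subgroup of order nine.
-/

set_option autoImplicit false

namespace Cfsg.Agent.Lib.ThreeNine

open Cfsg Cfsg.Agent.Lib.Characters

variable {G : Type*} [Group G] [Finite G] {T : Sylow 3 G}

theorem Fpf.table (h : Fpf T) {x y : G} (c : Axes T x y) {α : Type*} [DecidableEq α]
    (κ : ZMod 3 × ZMod 3 → α) (hκ : ∀ z z', IsConj (el x y z) (el x y z') ↔ κ z = κ z')
    (hneg : ∀ z, κ (-z) = κ z) [Fintype (IrrCharacter G)] :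
    ∃ (v : IrrCharacter G → ZMod 3 × ZMod 3 → ℤ) (d : IrrCharacter G → ℕ),
      (∀ χ, 0 < d χ) ∧ d (trivIrr G) = 1 ∧ (∀ z, v (trivIrr G) z = 1) ∧
      (∀ χ, v χ 0 = d χ) ∧
      (∀ χ z, (3 : ℤ) ∣ v χ z - d χ) ∧ (∀ χ, (9 : ℤ) ∣ ∑ z, v χ z) ∧
      (∀ z z', z ≠ 0 → ∑ χ, v χ z * v χ z' = if κ z = κ z' then 9 else 0) ∧
      (∀ a b w, a ≠ 0 → b ≠ 0 → w ≠ 0 → ¬ (κ a = κ b ∧ κ a = κ w) →
        ∑ χ, ((v χ a * v χ b * v χ w : ℤ) : ℚ) / (d χ : ℚ) =
          ((Finset.univ.filter (fun z => κ z = κ a ∧ κ (w - z) = κ b)).card : ℚ) * 81 /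
            (Nat.card G : ℚ)) := by
  classical
  haveI := Fintype.ofFinite G
  have hreal : ∀ z, IsConj (el x y z) (el x y z)⁻¹ := fun z => by
    rw [c.el_inv h.toLoc]
    exact (hκ _ _).mpr (hneg z).symm
  choose d hd0 hd _ using fun χ : IrrCharacter G => IsIrrCharacter.exists_degree_dvd χ.2
  choose v hv hvd using fun (χ : IrrCharacter G) (z : ZMod 3 × ZMod 3) =>
    exists_int_value (irr_isCharacter χ) (h.cube _ (c.el_mem z)) (hreal z) (hd χ)
  have hconjv : ∀ (χ : IrrCharacter G) z,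
      (starRingEnd ℂ) ((χ : G → ℂ) (el x y z)) = (v χ z : ℂ) := fun χ z => by
    rw [hv, map_intCast]
  have hcard : ∀ z, z ≠ 0 → Nat.card (Subgroup.centralizer ({el x y z} : Set G)) = 9 := fun z hz => by
    rw [h.cc _ (c.el_mem z) (fun e => hz (c.el_eq_one.mp e))]
    exact h.card
  have h0 : el x y (0 : ZMod 3 × ZMod 3) = 1 := c.el_eq_one.mpr rfl
  have hv0 : ∀ χ, v χ 0 = d χ := fun χ => by
    have h1 := hv χ 0
    rw [h0, hd] at h1
    exact_mod_cast h1.symm
  have hone : ∀ z, v (trivIrr G) z = 1 := fun z => by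
    have := hv (trivIrr G) z
    rw [trivIrr_apply] at this
    exact_mod_cast this.symm
  refine ⟨v, d, hd0, ?_, hone, hv0, hvd, fun χ => ?_, fun z z' hz => ?_, ?_⟩
  · have := hd (trivIrr G)
    rw [trivIrr_apply] at this
    exact_mod_cast this.symm
  · haveI := Fintype.ofFinite ↥(T : Subgroup G)
    obtain ⟨k, hk⟩ := IsCharacter.exists_classInner_nat
      (IsCharacter.restrict (irr_isCharacter χ) (T : Subgroup G)) isCharacter_one
    have hsum : ∑ u : ↥(T : Subgroup G), (χ : G → ℂ) u = 9 * (k : ℂ) := by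
      rw [← hk]
      simp only [classInner, map_one, mul_one]
      rw [show Nat.card ↥(T : Subgroup G) = 9 from h.card]
      push_cast
      ring
    let e : ZMod 3 × ZMod 3 ≃ ↥(T : Subgroup G) :=
      Equiv.ofBijective (fun z => ⟨el x y z, c.el_mem z⟩)
        ⟨fun z z' e => c.inj z z' (congrArg Subtype.val e),
          fun u => (c.surj u u.2).imp fun z hz => Subtype.ext hz⟩
    rw [← e.sum_comp] at hsum
    refine ⟨k, ?_⟩
    have h1 : ∑ z, ((v χ z : ℤ) : ℂ) = ((9 * (k : ℤ) : ℤ) : ℂ) := by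
      push_cast
      rw [← hsum]
      exact Finset.sum_congr rfl fun z _ => (hv χ z).symm
    exact_mod_cast h1
  · have h1 := sum_irr_mul_conj (el x y z) (el x y z')
    have h2 : ∀ χ : IrrCharacter G, (χ : G → ℂ) (el x y z) *
        (starRingEnd ℂ) ((χ : G → ℂ) (el x y z')) = ((v χ z * v χ z' : ℤ) : ℂ) := fun χ => by
      rw [hconjv, hv]; push_cast; rfl
    rw [Finset.sum_congr rfl fun χ _ => h2 χ] at h1
    by_cases he : κ z = κ z'
    · rw [if_pos ((hκ z z').mpr he), hcard z hz] at h1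
      rw [if_pos he]
      exact_mod_cast h1
    · rw [if_neg (fun hc => he ((hκ z z').mp hc))] at h1
      rw [if_neg he]
      exact_mod_cast h1
  · intro a b w ha hb hw hne
    have hgq : (Nat.card G : ℚ) ≠ 0 := by exact_mod_cast Nat.card_pos.ne'
    have h1 := card_class_mul (el x y a) (el x y b) (el x y w)
    rw [c.card_pairs h.toLoc κ hκ hneg a b w hw hne] at h1
    have h2 : ∀ χ : IrrCharacter G, (χ : G → ℂ) (el x y a) * (χ : G → ℂ) (el x y b) *
        (starRingEnd ℂ) ((χ : G → ℂ) (el x y w)) / (χ : G → ℂ) 1 =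
        ((((v χ a * v χ b * v χ w : ℤ) : ℚ) / (d χ : ℚ) : ℚ) : ℂ) := fun χ => by
      rw [hconjv, hv, hv, hd]; push_cast; rfl
    rw [Finset.sum_congr rfl fun χ _ => h2 χ] at h1
    have ha' := card_conj_mul_card_centralizer (el x y a)
    have hb' := card_conj_mul_card_centralizer (el x y b)
    rw [hcard a ha] at ha'
    rw [hcard b hb] at hb'
    set cn := (Finset.univ.filter (fun z => κ z = κ a ∧ κ (w - z) = κ b)).card
    set Sg := ∑ χ : IrrCharacter G, ((v χ a * v χ b * v χ w : ℤ) : ℚ) / (d χ : ℚ)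
    set A := Nat.card {u : G // IsConj (el x y a) u}
    set B := Nat.card {u : G // IsConj (el x y b) u}
    have h3 : (cn : ℚ) = (A : ℚ) * (B : ℚ) / (Nat.card G : ℚ) * Sg := by
      have : ((cn : ℚ) : ℂ) = (((A : ℚ) * (B : ℚ) / (Nat.card G : ℚ) * Sg : ℚ) : ℂ) := by
        simp only [Sg]
        push_cast
        push_cast at h1
        exact h1
      exact_mod_cast this
    have hA : (A : ℚ) * 9 = Nat.card G := by exact_mod_cast ha'
    have hB : (B : ℚ) * 9 = Nat.card G := by exact_mod_cast hb'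
    rw [h3, eq_div_iff hgq]
    field_simp
    linear_combination (-(Sg * (Nat.card G : ℚ))) * hA - Sg * (A : ℚ) * 9 * hB

end Cfsg.Agent.Lib.ThreeNine
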