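import Mathlib

/-!
A self-centralising Sylow `3`-subgroup of order `9` with four-group automiser: local structure.
-/

set_option autoImplicit false

namespace Cfsg.Agent.Lib.ThreeNine

open Subgroup
open scoped Pointwise

/-- The local hypotheses, for any automiser. -/
structure Loc {G : Type*} [Group G] (T : Sylow 3 G) : Prop where
  comm : ∀ a ∈ (T : Subgroup G), ∀ b ∈ (T : Subgroup G), a * b = b * a
  cube : ∀ a ∈ (T : Subgroup G), a ^ 3 = 1
  card : Nat.card T = 9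
  loc : ∀ t ∈ (T : Subgroup G), t ≠ 1 →
    Subgroup.centralizer ({t} : Set G) ≤ normalizer ((T : Subgroup G) : Set G)

/-- The hypotheses with a four-group automiser. -/
structure Hyp {G : Type*} [Group G] (T : Sylow 3 G) : Prop extends Loc T where
  self : Subgroup.centralizer ((T : Subgroup G) : Set G) = T
  sq : ∀ n ∈ normalizer ((T : Subgroup G) : Set G), n * n ∈ (T : Subgroup G)
  index : ((T : Subgroup G).subgroupOf (normalizer ((T : Subgroup G) : Set G))).index = 4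

variable {G : Type*} [Group G] [Finite G] {T : Sylow 3 G}

local notation "𝓝" => normalizer ((T : Subgroup G) : Set G)

theorem Loc.mem_of_normalizes (h : Loc T) {u : G} (hu : u ^ 3 = 1) (hn : u ∈ 𝓝) :
    u ∈ (T : Subgroup G) := by
  have hp : IsPGroup 3 (zpowers u) := IsPGroup.of_card_dvd_pow (n := 1) (by
    rw [Nat.card_zpowers, pow_one]; exact orderOf_dvd_of_pow_eq_one hu)
  have hle : zpowers u ≤ 𝓝 := zpowers_le.mpr hn
  have h3 := T.is_maximal' (IsPGroup.to_sup_of_normal_right' hp T.isPGroup' hle) le_sup_right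
  exact h3 ▸ (le_sup_left : zpowers u ≤ zpowers u ⊔ T) (mem_zpowers u)

theorem Loc.mem_of_commute (h : Loc T) {t u : G} (ht : t ∈ (T : Subgroup G)) (ht1 : t ≠ 1)
    (hu : u ^ 3 = 1) (hc : u * t = t * u) : u ∈ (T : Subgroup G) :=
  h.mem_of_normalizes hu (h.loc t ht ht1 (mem_centralizer_singleton_iff.mpr hc))

theorem Loc.conj_mem (h : Loc T) {t g s : G} (ht : t ∈ (T : Subgroup G)) (ht1 : t ≠ 1)
    (hgt : g * t * g⁻¹ ∈ (T : Subgroup G)) (hs : s ∈ (T : Subgroup G)) :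
    g * s * g⁻¹ ∈ (T : Subgroup G) :=
  h.mem_of_commute hgt (fun e => ht1 (conj_eq_one_iff.mp e))
    (by rw [conj_pow, h.cube s hs, mul_one, mul_inv_cancel])
    (by
      calc g * s * g⁻¹ * (g * t * g⁻¹) = g * (s * t) * g⁻¹ := by group
        _ = g * (t * s) * g⁻¹ := by rw [h.comm s hs t ht]
        _ = g * t * g⁻¹ * (g * s * g⁻¹) := by group)

theorem Loc.mem_normalizer (h : Loc T) {t g : G} (ht : t ∈ (T : Subgroup G)) (ht1 : t ≠ 1)
    (hgt : g * t * g⁻¹ ∈ (T : Subgroup G)) : g ∈ 𝓝 := by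
  intro s
  refine ⟨fun hs => h.conj_mem ht ht1 hgt hs, fun hs => ?_⟩
  have := h.conj_mem hgt (fun e => ht1 (conj_eq_one_iff.mp e)) (g := g⁻¹)
    (by simpa [mul_assoc] using ht) hs
  simp only [inv_inv] at this
  rw [show g⁻¹ * (g * s * g⁻¹) * g = s by group] at this
  exact this

theorem Loc.exists_conj_le (_h : Loc T) {P : Subgroup G} (hP : IsPGroup 3 P) :
    ∃ g : G, ∀ u ∈ P, g * u * g⁻¹ ∈ (T : Subgroup G) := by
  obtain ⟨Q, hQ⟩ := hP.exists_le_sylow
  obtain ⟨g, hg⟩ := MulAction.exists_smul_eq G Q T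
  refine ⟨g, fun u hu => ?_⟩
  have : MulAut.conj g • u ∈ MulAut.conj g • (Q : Subgroup G) :=
    Subgroup.smul_mem_pointwise_smul u (MulAut.conj g) _ (hQ hu)
  rw [← Sylow.pointwise_smul_def, ← Sylow.smul_def, hg] at this
  simpa [MulAut.smul_def] using this

/-- The product of two commuting elements in exponent form. -/
theorem pow_mul_pow_mul {α β : G} (h : Commute α β) (i j i' j' : ℤ) :
    α ^ i * β ^ j * (α ^ i' * β ^ j') = α ^ (i + i') * β ^ (j + j') := by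
  rw [zpow_add, zpow_add, mul_assoc, ← mul_assoc (β ^ j), ← (h.zpow_zpow i' j).eq]
  simp only [mul_assoc]

theorem conj_exp {α β p : G} (h1 : p * α * p⁻¹ = β) (h2 : p * β * p⁻¹ = (α * β)⁻¹)
    (hc : Commute α β) (i j : ℤ) : p * (α ^ i * β ^ j) * p⁻¹ = α ^ (-j) * β ^ (i - j) := by
  rw [← MulAut.conj_apply, map_mul, map_zpow, map_zpow, MulAut.conj_apply, MulAut.conj_apply, h1,
    h2, inv_zpow', hc.mul_zpow, ← mul_assoc, ← (hc.zpow_zpow (-j) i).eq, mul_assoc, ← zpow_add]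
  rw [sub_eq_add_neg]

/-- Two elements of order three with product of order three commute or are conjugate. -/
theorem Loc.commute_or_conj (h : Loc T) {p q : G} (hp : p ^ 3 = 1) (hq : q ^ 3 = 1)
    (hpq : (p * q) ^ 3 = 1) : p * q = q * p ∨ (IsConj p q ∧ IsConj p⁻¹ (p * q)) := by
  obtain ⟨α, hα⟩ : ∃ α, α = p⁻¹ * q := ⟨_, rfl⟩
  obtain ⟨β, hβ⟩ : ∃ β, β = q * p⁻¹ := ⟨_, rfl⟩
  have hp2 : p * p = p⁻¹ := eq_inv_of_mul_eq_one_left (by rw [← hp, pow_succ, pow_two])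
  have hq2 : q * q = q⁻¹ := eq_inv_of_mul_eq_one_left (by rw [← hq, pow_succ, pow_two])
  have hqp : q * p * q = (p * q * p)⁻¹ := by
    refine eq_inv_of_mul_eq_one_left ?_
    calc q * p * q * (p * q * p) = p⁻¹ * (p * q) ^ 3 * p := by
            rw [pow_succ, pow_two]; group
      _ = 1 := by rw [hpq, mul_one, inv_mul_cancel]
  have hαβ' : α * β = (p * q * p)⁻¹ := by
    rw [hα, hβ]
    calc p⁻¹ * q * (q * p⁻¹) = p⁻¹ * (q * q) * p⁻¹ := by group
      _ = (p * q * p)⁻¹ := by rw [hq2]; group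
  have hβα : β * α = q * p * q := by
    rw [hα, hβ]
    calc q * p⁻¹ * (p⁻¹ * q) = q * (p * p)⁻¹ * q := by group
      _ = q * p * q := by rw [hp2, inv_inv]
  have hc : Commute α β := by
    show α * β = β * α
    rw [hαβ', hβα, hqp]
  have h1 : p * α * p⁻¹ = β := by rw [hα, hβ]; group
  have h2 : p * β * p⁻¹ = (α * β)⁻¹ := by
    rw [hαβ', inv_inv, hβ]
    calc p * (q * p⁻¹) * p⁻¹ = p * q * (p * p)⁻¹ := by group
      _ = p * q * p := by rw [hp2, inv_inv]
  have hqα : q = p * α := by rw [hα]; group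
  -- exponents separating the `3`-part
  obtain ⟨a, m, hm, hM⟩ := Nat.exists_eq_pow_mul_and_not_dvd (Nat.card_pos (α := G)).ne' 3
    (by norm_num)
  have hcop : Nat.Coprime (3 ^ a) m := (Nat.prime_three.coprime_iff_not_dvd.mpr hm).pow_left a
  obtain ⟨k, hk1, hk2⟩ := Nat.chineseRemainder hcop 1 0
  obtain ⟨l, hl1, hl2⟩ := Nat.chineseRemainder hcop 0 1
  obtain ⟨k', hk'1, hk'2⟩ := Nat.chineseRemainder (Nat.prime_three.coprime_iff_not_dvd.mpr hm) 0 1
  obtain ⟨j, rfl⟩ : 3 ∣ k' := Nat.modEq_zero_iff_dvd.mp hk'1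
  have hred : ∀ (z : G) (u v : ℕ), u ≡ v [MOD Nat.card G] → z ^ u = z ^ v := fun z u v huv =>
    pow_eq_pow_iff_modEq.mpr (huv.of_dvd (orderOf_dvd_natCard z))
  have hkl : k + l ≡ 1 [MOD Nat.card G] := by
    rw [hM]
    exact (Nat.modEq_and_modEq_iff_modEq_mul hcop).mp ⟨by simpa using hk1.add hl1,
      by simpa using hk2.add hl2⟩
  have hlj : l * (3 * j) ≡ l [MOD Nat.card G] := by
    rw [hM]
    refine (Nat.modEq_and_modEq_iff_modEq_mul hcop).mp ⟨?_, ?_⟩
    · exact (hl1.mul_right _).trans (by simpa using hl1.symm)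
    · simpa using hk'2.mul_left l
  have hlm : l * m ≡ 0 [MOD Nat.card G] := by
    rw [hM]
    exact Nat.modEq_zero_iff_dvd.mpr (Nat.mul_dvd_mul_right (Nat.modEq_zero_iff_dvd.mp hl1) m)
  have hk3 : k * 3 ^ a ≡ 0 [MOD Nat.card G] := by
    rw [hM, mul_comm (3 ^ a) m]
    exact Nat.modEq_zero_iff_dvd.mpr (Nat.mul_dvd_mul_right (Nat.modEq_zero_iff_dvd.mp hk2) _)
  -- the `3`-part generates, with `p`, a `3`-group
  obtain ⟨A, hA⟩ : ∃ A, A = α ^ k := ⟨_, rfl⟩
  obtain ⟨B, hB⟩ : ∃ B, B = β ^ k := ⟨_, rfl⟩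
  have hpgrp : ∀ z : G, IsPGroup 3 (zpowers (z ^ k)) := fun z => IsPGroup.of_card_dvd_pow (n := a) (by
    rw [Nat.card_zpowers]
    refine orderOf_dvd_of_pow_eq_one ?_
    rw [← pow_mul, hred z _ 0 hk3, pow_zero])
  have hAB : Commute A B := by rw [hA, hB]; exact hc.pow_pow k k
  have hH : IsPGroup 3 (zpowers A ⊔ zpowers B : Subgroup G) := by
    refine IsPGroup.to_sup_of_normal_right' (hA ▸ hpgrp α) (hB ▸ hpgrp β) (zpowers_le.mpr ?_)
    intro z
    constructor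
    · rintro ⟨i, rfl⟩
      exact ⟨i, by simp only [((hAB.zpow_right i).eq), mul_inv_cancel_right]⟩
    · rintro ⟨i, hi⟩
      exact ⟨i, by
        simp only at hi ⊢
        rw [show z = A⁻¹ * B ^ i * A by rw [hi]; group, mul_assoc, ← (hAB.zpow_right i).eq,
          inv_mul_cancel_left]⟩
  have hAc : p * A * p⁻¹ = B := by rw [hA, hB, ← conj_pow, h1]
  have hBc : p * B * p⁻¹ = (A * B)⁻¹ := by rw [hA, hB, ← conj_pow, h2, inv_pow, hc.mul_pow]
  have hfwd : ∀ z ∈ (zpowers A ⊔ zpowers B : Subgroup G),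
      p * z * p⁻¹ ∈ (zpowers A ⊔ zpowers B : Subgroup G) := by
    intro z hz
    have hAm : A ∈ (zpowers A ⊔ zpowers B : Subgroup G) := mem_sup_left (mem_zpowers A)
    have hBm : B ∈ (zpowers A ⊔ zpowers B : Subgroup G) := mem_sup_right (mem_zpowers B)
    have hle : (zpowers A ⊔ zpowers B : Subgroup G) ≤
        (zpowers A ⊔ zpowers B : Subgroup G).comap (MulAut.conj p).toMonoidHom := by
      refine sup_le (zpowers_le.mpr ?_) (zpowers_le.mpr ?_) <;> rw [mem_comap] <;>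
        simp only [MulEquiv.toMonoidHom_eq_coe, MonoidHom.coe_coe, MulAut.conj_apply]
      · rw [hAc]; exact hBm
      · rw [hBc]; exact inv_mem (mul_mem hAm hBm)
    simpa using hle hz
  have hP : IsPGroup 3 (zpowers p ⊔ (zpowers A ⊔ zpowers B) : Subgroup G) := by
    refine IsPGroup.to_sup_of_normal_right' (IsPGroup.of_card_dvd_pow (n := 1) (by
      rw [Nat.card_zpowers, pow_one]; exact orderOf_dvd_of_pow_eq_one hp)) hH (zpowers_le.mpr ?_)
    intro z
    refine ⟨fun hz => hfwd z hz, fun hz => ?_⟩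
    have h3 := hfwd _ (hfwd _ hz)
    have e : p * (p * (p * z * p⁻¹) * p⁻¹) * p⁻¹ = p ^ 3 * z * (p ^ 3)⁻¹ := by
      rw [pow_succ, pow_two]; group
    rw [e, hp] at h3
    simpa using h3
  obtain ⟨g, hg⟩ := h.exists_conj_le hP
  have hgp : g * p * g⁻¹ ∈ (T : Subgroup G) := hg _ (mem_sup_left (mem_zpowers p))
  have hgA : g * A * g⁻¹ ∈ (T : Subgroup G) :=
    hg _ (mem_sup_right (mem_sup_left (mem_zpowers A)))
  have hpA : p * A = A * p := by
    have := h.comm _ hgp _ hgA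
    rw [← MulAut.conj_apply, ← MulAut.conj_apply, ← map_mul, ← map_mul] at this
    exact (MulAut.conj g).injective this
  have hsum : α ^ k * α ^ l = α := by rw [← pow_add, hred α _ 1 hkl, pow_one]
  by_cases hA1 : A = 1
  · rw [← hA, hA1, one_mul] at hsum
    have hbase : α ^ ((3 * (l * j) : ℕ) : ℤ) = α := by
      rw [zpow_natCast, show 3 * (l * j) = l * (3 * j) by ring, hred α _ l hlj, hsum]
    refine Or.inr ⟨isConj_iff.mpr ⟨α ^ (-(l * j : ℕ) : ℤ) * β ^ ((l * j : ℕ) : ℤ), ?_⟩,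
      isConj_iff.mpr ⟨α ^ (-(2 * (l * j) : ℕ) : ℤ) * β ^ (-(l * j : ℕ) : ℤ), ?_⟩⟩
    · set i : ℤ := ((l * j : ℕ) : ℤ)
      have e : α ^ (-i) * β ^ i = p * (α ^ (i + i) * β ^ i) * p⁻¹ := by
        rw [conj_exp h1 h2 hc]; congr 2 <;> ring
      have key : α ^ (-i) * β ^ i * p * (α ^ (-i) * β ^ i)⁻¹ = p * α ^ (3 * i) := by
        conv_lhs => rw [e]
        rw [show p * (α ^ (i + i) * β ^ i) * p⁻¹ * p * (p * (α ^ (i + i) * β ^ i) * p⁻¹)⁻¹ =
          p * ((α ^ (i + i) * β ^ i) * (p * (α ^ (i + i) * β ^ i) * p⁻¹)⁻¹) by group, ← e,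
          mul_inv_rev, ← zpow_neg, ← zpow_neg, ← (hc.zpow_zpow _ _).eq, pow_mul_pow_mul hc]
        congr 1
        rw [show i + i + - -i = 3 * i by ring, add_neg_cancel, zpow_zero, mul_one]
      rw [key, hqα, show (3 * i : ℤ) = ((3 * (l * j) : ℕ) : ℤ) by simp [i], hbase]
    · set i : ℤ := ((l * j : ℕ) : ℤ) with hi
      rw [show (-(2 * (l * j) : ℕ) : ℤ) = -(i + i) by simp [hi]; ring]
      have e : p * (α ^ (-(i + i)) * β ^ (-i)) * p⁻¹ = α ^ i * β ^ (-i) := by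
        rw [conj_exp h1 h2 hc]; congr 2 <;> ring
      have key : α ^ (-(i + i)) * β ^ (-i) * p⁻¹ * (α ^ (-(i + i)) * β ^ (-i))⁻¹ =
          p⁻¹ * α ^ (3 * i) := by
        rw [show α ^ (-(i + i)) * β ^ (-i) * p⁻¹ * (α ^ (-(i + i)) * β ^ (-i))⁻¹ =
          p⁻¹ * (p * (α ^ (-(i + i)) * β ^ (-i)) * p⁻¹ * (α ^ (-(i + i)) * β ^ (-i))⁻¹) by group,
          e, mul_inv_rev, ← zpow_neg, ← zpow_neg, ← (hc.zpow_zpow _ _).eq, pow_mul_pow_mul hc]
        congr 1
        rw [show i + - -(i + i) = 3 * i by ring, show -i + - -i = (0 : ℤ) by ring, zpow_zero,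
          mul_one]
      rw [key, show (3 * i : ℤ) = ((3 * (l * j) : ℕ) : ℤ) by simp [hi], hbase, hqα, ← mul_assoc,
        hp2]
  · left
    obtain ⟨b, hb⟩ : ∃ b, b = α ^ l := ⟨_, rfl⟩
    have hbA : b * A = A * b := by rw [hb, hA, ← pow_add, ← pow_add, add_comm]
    have hbN : g * b * g⁻¹ ∈ 𝓝 := by
      refine h.loc _ hgA (fun e => hA1 (conj_eq_one_iff.mp e)) (mem_centralizer_singleton_iff.mpr ?_)
      calc g * b * g⁻¹ * (g * A * g⁻¹) = g * (b * A) * g⁻¹ := by group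
        _ = g * (A * b) * g⁻¹ := by rw [hbA]
        _ = g * A * g⁻¹ * (g * b * g⁻¹) := by group
    have hcT : g * (b * p * b⁻¹ * p⁻¹) * g⁻¹ ∈ (T : Subgroup G) := by
      have := mul_mem ((hbN (g * p * g⁻¹)).mp hgp) (inv_mem hgp)
      convert this using 1
      group
    have hc3 : (b * p * b⁻¹ * p⁻¹) ^ 3 = 1 := by
      have := h.cube _ hcT
      rw [conj_pow] at this
      exact conj_eq_one_iff.mp this
    have hce : b * p * b⁻¹ * p⁻¹ = α ^ l * (β ^ l)⁻¹ := by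
      calc b * p * b⁻¹ * p⁻¹ = b * (p * b * p⁻¹)⁻¹ := by group
        _ = α ^ l * (β ^ l)⁻¹ := by rw [hb, ← conj_pow, h1]
    have hcm : (b * p * b⁻¹ * p⁻¹) ^ m = 1 := by
      rw [hce, ((hc.pow_pow l l).inv_right).mul_pow, inv_pow, ← pow_mul, ← pow_mul,
        hred α _ 0 hlm, hred β _ 0 hlm]
      simp
    have hc1 : b * p * b⁻¹ * p⁻¹ = 1 := by
      have h3 := orderOf_dvd_of_pow_eq_one hc3
      have hm' := orderOf_dvd_of_pow_eq_one hcm
      exact orderOf_eq_one_iff.mp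
        (Nat.eq_one_of_dvd_coprimes (Nat.prime_three.coprime_iff_not_dvd.mpr hm) h3 hm')
    have hbp : b * p = p * b := by
      calc b * p = b * p * b⁻¹ * p⁻¹ * (p * b) := by group
        _ = p * b := by rw [hc1, one_mul]
    have hαp : p * α = α * p := by
      rw [← hsum, ← hA, ← hb, ← mul_assoc, hpA, mul_assoc, ← hbp, mul_assoc]
    rw [hqα, mul_assoc p α p, ← hαp]

end Cfsg.Agent.Lib.ThreeNine
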